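import Cfsg.Agent.H2.Simple
import Cfsg.Agent.H2.F4

/-!
The stabiliser of three points in `M24` is `PSL(3, 4)`.
-/

set_option autoImplicit false

namespace H2
open Cfsg MulAction Matrix
open scoped Pointwise LinearAlgebra.Projectivization

/-- A vector for each of the points numbered 2 to 22. -/
def vec34 (i : ℕ) : Fin 3 → F4 := fun k => F4.mk' (([0, 0, 16, 4, 1, 20, 37, 21, 41, 29, 45, 9, 57,
  33, 52, 61, 17, 36, 25, 5, 13, 53, 49, 0].getD i 0) >>> (2 * k.1))

/-- The point of a nonzero vector. -/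
def lab34 (v : Fin 3 → F4) : ℕ := [2, 4, 4, 4, 3, 19, 20, 11, 3, 11, 19, 20, 3, 20, 11, 19, 2, 16,
  22, 13, 5, 7, 15, 8, 14, 18, 21, 10, 17, 9, 12, 6, 2, 13, 16, 22, 17, 6, 9, 12, 5, 8, 7, 15, 14,
  10, 18, 21, 2, 22, 13, 16, 14, 21, 10, 18, 17, 12, 6, 9, 5, 15, 8, 7].getD
  ((v 0).val.1 + 4 * (v 1).val.1 + 16 * (v 2).val.1) 2

theorem forall_vec {Q : (Fin 3 → F4) → Prop} (h : ∀ a b c : F4, Q ![a, b, c]) (v : Fin 3 → F4) :
    Q v := by
  have : v = ![v 0, v 1, v 2] := by ext i; fin_cases i <;> rfl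
  rw [this]; exact h _ _ _

theorem lab34_range : ∀ v, 2 ≤ lab34 v ∧ lab34 v ≤ 22 := forall_vec (by decide +kernel)

theorem vec34_lab : ∀ v, v ≠ 0 → ∃ c : F4, c ≠ 0 ∧ vec34 (lab34 v) = c • v :=
  forall_vec (by decide +kernel)

theorem lab34_vec : ∀ i < 23, 2 ≤ i → vec34 i ≠ 0 ∧ lab34 (vec34 i) = i := by decide +kernel

theorem lab34_smul : ∀ v, ∀ c : F4, c ≠ 0 → lab34 (c • v) = lab34 v :=
  forall_vec (by decide +kernel)

/-- The action of a matrix on the numbers of the points. -/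
def act34 (M : Matrix (Fin 3) (Fin 3) F4) (i : ℕ) : ℕ :=
  if 2 ≤ i ∧ i < 23 then lab34 (M *ᵥ vec34 i) else i

theorem act34_lt (M : Matrix (Fin 3) (Fin 3) F4) {i : ℕ} (hi : i < 24) : act34 M i < 24 := by
  unfold act34
  split_ifs
  · have := lab34_range (M *ᵥ vec34 i); omega
  · exact hi

theorem sl_mulVec_ne_zero (M : SpecialLinearGroup (Fin 3) F4) {v : Fin 3 → F4} (hv : v ≠ 0) :
    M.1 *ᵥ v ≠ 0 := fun h => hv (by
  have : M • v = 0 := h
  rwa [smul_eq_zero_iff_eq] at this)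

theorem act34_lab (M : Matrix (Fin 3) (Fin 3) F4) {v : Fin 3 → F4} (hv : v ≠ 0) :
    act34 M (lab34 v) = lab34 (M *ᵥ v) := by
  have h1 := lab34_range v
  obtain ⟨c, hc, e⟩ := vec34_lab v hv
  rw [act34, if_pos (by omega), e, mulVec_smul, lab34_smul _ _ hc]

theorem act34_mul (M N : SpecialLinearGroup (Fin 3) F4) (i : ℕ) :
    act34 (M * N).1 i = act34 M.1 (act34 N.1 i) := by
  by_cases h : 2 ≤ i ∧ i < 23
  · rw [act34, if_pos h, act34.eq_1 N.1, if_pos h,
      act34_lab _ (sl_mulVec_ne_zero N (lab34_vec i h.2 h.1).1), mulVec_mulVec]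
    rfl
  · rw [act34, if_neg h, act34.eq_1 N.1, if_neg h, act34, if_neg h]

theorem act34_one (i : ℕ) : act34 1 i = i := by
  unfold act34
  split_ifs with h
  · rw [one_mulVec, (lab34_vec i h.2 h.1).2]
  · rfl

/-- The action of `SL(3, 4)` on the 24 points. -/
def hom34 : SpecialLinearGroup (Fin 3) F4 →* P24 :=
  MonoidHom.toHomPerm
    { toFun := fun M p => pt (act34 M.1 (idx p))
      map_one' := by
        funext p
        show pt (act34 1 (idx p)) = p
        rw [act34_one, pt_idx]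
      map_mul' := fun M N => by
        funext p
        show pt (act34 (M * N).1 (idx p)) = pt (act34 M.1 (idx (pt (act34 N.1 (idx p)))))
        rw [act34_mul, idx_pt (act34_lt _ (idx_lt p))] }

theorem hom34_apply (M : SpecialLinearGroup (Fin 3) F4) (p : GolayPt) :
    hom34 M p = pt (act34 M.1 (idx p)) := rfl

theorem rep_hom34 (M : SpecialLinearGroup (Fin 3) F4) : Rep (hom34 M) (bld (act34 M.1) 24) := by
  intro i hi
  rw [hom34_apply, idx_pt hi, idx_pt (act34_lt _ hi),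
    ap_bld (fun j hj => (act34_lt _ hj).trans (by norm_num)) hi]

theorem hom34_ker : hom34.ker = Subgroup.center (SpecialLinearGroup (Fin 3) F4) := by
  ext M
  rw [MonoidHom.mem_ker]
  constructor
  · intro h
    rw [← Projectivization.SL_mulAction_ker, MonoidHom.mem_ker]
    ext l
    induction l using Projectivization.ind with | _ v hv =>
    have h1 := lab34_range v
    have h2 : pt (act34 M.1 (idx (pt (lab34 v)))) = pt (lab34 v) := by
      rw [← hom34_apply, h]; rfl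
    rw [idx_pt (by omega), pt_inj (act34_lt _ (by omega)) (by omega), act34_lab _ hv] at h2
    obtain ⟨c, hc, e⟩ := vec34_lab v hv
    obtain ⟨c', hc', e'⟩ := vec34_lab _ (sl_mulVec_ne_zero M hv)
    rw [h2, e] at e'
    simp only [toPermHom_apply, toPerm_apply, Projectivization.smul_mk, Equiv.Perm.coe_one, id_eq,
      Projectivization.mk_eq_mk_iff']
    refine ⟨c'⁻¹ * c, ?_⟩
    rw [mul_smul, e', inv_smul_smul₀ hc']
    rfl
  · intro h
    obtain ⟨r, hr, e⟩ := Matrix.SpecialLinearGroup.mem_center_iff.1 h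
    have hr0 : r ≠ 0 := by rintro rfl; simp at hr
    ext1 p
    rw [hom34_apply, Equiv.Perm.one_apply]
    conv_rhs => rw [← pt_idx p, ← act34_one (idx p)]
    unfold act34
    split_ifs
    · rw [← e, one_mulVec, scalar_apply, ← smul_one_eq_diagonal, smul_mulVec, one_mulVec,
        lab34_smul _ _ hr0]
    · rfl

theorem hom34_mem_M24 (M : SpecialLinearGroup (Fin 3) F4) : hom34 M ∈ M24 := by
  refine SpecialLinearGroup.diagonal_transvection_induction' (fun M => hom34 M ∈ M24) M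
    (fun i j hij c hc => (rep_hom34 _).mem_M24 ?_) (fun i j hij c => (rep_hom34 _).mem_M24 ?_)
    fun A B hA hB => by rw [map_mul]; exact M24.mul_mem hA hB
  · rw [SpecialLinearGroup.diag2n_coe]
    revert c
    revert i j
    decide +kernel
  · rw [SpecialLinearGroup.transvection_coe]
    revert c
    revert i j
    decide +kernel

theorem hom34_range : hom34.range = M24 ⊓ stP (pt 23) ⊓ stP (pt 0) ⊓ stP (pt 1) := by
  apply le_antisymm
  · rintro _ ⟨M, rfl⟩
    exact ⟨⟨⟨hom34_mem_M24 M, rfl⟩, rfl⟩, rfl⟩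
  · rw [← fix3_eq]
    have key : ∀ (M : Matrix (Fin 3) (Fin 3) F4) (_ : M.det = 1) (c : ℕ),
        bld (act34 M) 24 = c → RepIn hom34.range c := fun M hM c e =>
      ⟨hom34 ⟨M, hM⟩, ⟨_, rfl⟩, e ▸ rep_hom34 ⟨M, hM⟩⟩
    refine fix3_le (AllIn.cons ?_ (AllIn.cons ?_ (allIn_nil _)))
    · exact key !![⟨0⟩, ⟨3⟩, ⟨1⟩; ⟨3⟩, ⟨3⟩, ⟨1⟩; ⟨3⟩, ⟨0⟩, ⟨3⟩]
        (by rw [det_fin_three]; decide +kernel) _ (by decide +kernel)
    · exact key !![⟨3⟩, ⟨0⟩, ⟨1⟩; ⟨1⟩, ⟨1⟩, ⟨1⟩; ⟨1⟩, ⟨3⟩, ⟨2⟩]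
        (by rw [det_fin_three]; decide +kernel) _ (by decide +kernel)

/-- `PSL(3, 4)` is the stabiliser of the points 23, 0, 1. -/
noncomputable def psl34Equiv : ProjectiveSpecialLinearGroup (Fin 3) F4 ≃*
    ↥(M24 ⊓ stP (pt 23) ⊓ stP (pt 0) ⊓ stP (pt 1)) :=
  ((QuotientGroup.quotientMulEquivOfEq hom34_ker.symm).trans
    (QuotientGroup.quotientKerEquivRange hom34)).trans (MulEquiv.subgroupCongr hom34_range)

theorem M21_iso_psl {p q r : GolayPt} (h : p ≠ q) (hpr : p ≠ r) (hqr : q ≠ r) (F : Type*) [Field F]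
    [Fintype F] (hF : Fintype.card F = 4) :
    Nonempty (↥(M24 ⊓ stP p ⊓ stP q ⊓ stP r) ≃* ProjectiveSpecialLinearGroup (Fin 3) F) := by
  obtain ⟨e⟩ := M21_equiv h hpr hqr
  exact ⟨e.symm.trans (psl34Equiv.symm.trans
    (pslCongr (FiniteField.ringEquivOfCardEq (F4.card_F4.trans hF.symm))))⟩

theorem psl34_simple (F : Type*) [Field F] [Fintype F] (hF : Fintype.card F = 4) :
    IsSimpleGroup (ProjectiveSpecialLinearGroup (Fin 3) F) ∧
      Nat.card (ProjectiveSpecialLinearGroup (Fin 3) F) = 20160 := by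
  have h1 : pt 23 ≠ pt 0 := by decide +kernel
  have h2 : pt 23 ≠ pt 1 := by decide +kernel
  have h3 : pt 0 ≠ pt 1 := by decide +kernel
  obtain ⟨e⟩ := M21_iso_psl h1 h2 h3 F hF
  have := M21_simple₀
  exact ⟨e.symm.isSimpleGroup, by rw [← Nat.card_congr e.toEquiv, card_M21 h1 h2 h3]⟩

end H2
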