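import Mathlib
import Cfsg.Agent.H2.U3Aut
import Cfsg.Agent.H7.PBasic

/-! Special `2`-groups of order `q³` with a field action: recognition of the Sylow
`2`-subgroups of `L₃(q)` and `U₃(q)`. -/

set_option autoImplicit false

namespace H2

open Subgroup
open scoped commutatorElement

/-- data of a central extension of `V` by `Z` with squaring map `q` -/
structure SqExt (Q : Type*) [Group Q] {V Z : Type*} [AddCommGroup V] [AddCommGroup Z]
    (π : Q → V) (ι : Z → Q) (q : V → Z) : Prop where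
  π_mul : ∀ x y, π (x * y) = π x + π y
  surj : Function.Surjective π
  ι_add : ∀ s t, ι (s + t) = ι s * ι t
  inj : Function.Injective ι
  cen : ∀ s x, x * ι s = ι s * x
  ker : ∀ x, π x = 0 ↔ ∃ s, ι s = x
  sq : ∀ x, x ^ 2 = ι (q (π x))

theorem map_one_of_mul {Q V : Type*} [Group Q] [AddCommGroup V] {π : Q → V}
    (h : ∀ x y, π (x * y) = π x + π y) : π 1 = 0 := by simpa using h 1 1

theorem map_inv_of_mul {Q V : Type*} [Group Q] [AddCommGroup V] {π : Q → V}
    (h : ∀ x y, π (x * y) = π x + π y) (x : Q) : π x⁻¹ = -π x := by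
  rw [eq_neg_iff_add_eq_zero, ← h, inv_mul_cancel, map_one_of_mul h]

theorem map_zero_of_add {Q Z : Type*} [Group Q] [AddCommGroup Z] {ι : Z → Q}
    (h : ∀ s t, ι (s + t) = ι s * ι t) : ι 0 = 1 := by simpa using (h 0 0).symm

theorem map_neg_of_add {Q Z : Type*} [Group Q] [AddCommGroup Z] {ι : Z → Q}
    (h : ∀ s t, ι (s + t) = ι s * ι t) (s : Z) : ι (-s) = (ι s)⁻¹ := by
  rw [eq_inv_iff_mul_eq_one, ← h, neg_add_cancel, map_zero_of_add h]

/-- Central extensions of elementary abelian groups are determined by the squaring map. -/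
theorem SqExt.nonempty_equiv {Q₁ Q₂ V Z : Type*} [Group Q₁] [Group Q₂] [Finite Q₁] [Finite Q₂]
    [AddCommGroup V] [AddCommGroup Z] {π₁ : Q₁ → V} {π₂ : Q₂ → V} {ι₁ : Z → Q₁} {ι₂ : Z → Q₂}
    {q : V → Z} (h₁ : SqExt Q₁ π₁ ι₁ q) (h₂ : SqExt Q₂ π₂ ι₂ q) : Nonempty (Q₁ ≃* Q₂) := by
  let D : Subgroup (Q₁ × Q₂) :=
    { carrier := {w | ∃ s, w = (ι₁ s, ι₂ s)}
      one_mem' := ⟨0, by rw [map_zero_of_add h₁.ι_add, map_zero_of_add h₂.ι_add]; rfl⟩
      mul_mem' := by
        rintro _ _ ⟨s, rfl⟩ ⟨t, rfl⟩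
        exact ⟨s + t, by rw [h₁.ι_add, h₂.ι_add]; rfl⟩
      inv_mem' := by
        rintro _ ⟨s, rfl⟩
        exact ⟨-s, by rw [map_neg_of_add h₁.ι_add, map_neg_of_add h₂.ι_add]; rfl⟩ }
  let E : Subgroup (Q₁ × Q₂) :=
    { carrier := {w | π₁ w.1 = π₂ w.2}
      one_mem' := (map_one_of_mul h₁.π_mul).trans (map_one_of_mul h₂.π_mul).symm
      mul_mem' := fun {a b} (ha : π₁ a.1 = π₂ a.2) (hb : π₁ b.1 = π₂ b.2) =>
        show π₁ (a.1 * b.1) = π₂ (a.2 * b.2) by rw [h₁.π_mul, h₂.π_mul, ha, hb]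
      inv_mem' := fun {a} (ha : π₁ a.1 = π₂ a.2) => show π₁ a.1⁻¹ = π₂ a.2⁻¹ by
        rw [map_inv_of_mul h₁.π_mul, map_inv_of_mul h₂.π_mul, ha] }
  have hsq : ∀ e ∈ E, e ^ 2 ∈ D := fun e (he : π₁ e.1 = π₂ e.2) =>
    ⟨q (π₁ e.1), Prod.ext (h₁.sq _) (by rw [he]; exact h₂.sq _)⟩
  have hDE : D ≤ E := by
    rintro _ ⟨s, rfl⟩
    exact ((h₁.ker _).mpr ⟨s, rfl⟩).trans ((h₂.ker _).mpr ⟨s, rfl⟩).symm
  obtain ⟨W, -, hW⟩ := Finite.exists_le_maximal
    (p := fun W : Subgroup (Q₁ × Q₂) => D ≤ W ∧ W ≤ E ∧ ∀ w ∈ W, π₁ w.1 = 0 → w ∈ D)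
    (a := D) ⟨le_rfl, hDE, fun w hw _ => hw⟩
  obtain ⟨hDW, hWE, hW0⟩ := hW.1
  have hs1 : ∀ x, ∃ y, (x, y) ∈ W := by
    intro x
    by_contra hx
    obtain ⟨y, hy⟩ := h₂.surj (π₁ x)
    have he : (x, y) ∈ E := hy.symm
    have hn : (x, y) ∈ normalizer (W : Set (Q₁ × Q₂)) := by
      apply H7.mem_normalizer_of_forall_conj_mem
      intro w hw
      have h1 := hDW (hsq _ (E.mul_mem he (hWE hw)))
      have h2 := hDW (hsq _ he)
      have : (x, y) * w * (x, y)⁻¹ = ((x, y) * w) ^ 2 * w⁻¹ * ((x, y) ^ 2)⁻¹ := by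
        rw [pow_two, pow_two]; group
      rw [this]
      exact mul_mem (mul_mem h1 (inv_mem hw)) (inv_mem h2)
    have hle : W ⊔ zpowers (x, y) ≤ W := hW.2 ⟨hDW.trans le_sup_left,
      sup_le hWE (zpowers_le.mpr he), fun w hw h0 => by
        obtain ⟨n, hnW, k, rfl⟩ := (H7.mem_sup_zpowers_nat hn).mp hw
        rcases Nat.even_or_odd' k with ⟨j, rfl | rfl⟩
        · exact hW0 _ (mul_mem hnW (by rw [pow_mul]; exact pow_mem (hDW (hsq _ he)) j)) h0
        · exfalso
          have h1 : n * (x, y) ^ (2 * j) ∈ W :=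
            mul_mem hnW (by rw [pow_mul]; exact pow_mem (hDW (hsq _ he)) j)
          rw [pow_succ, ← mul_assoc] at h0
          generalize n * (x, y) ^ (2 * j) = m at h0 h1
          obtain ⟨s, hs⟩ := (h₁.ker _).mp h0
          refine hx ⟨m.2⁻¹ * ι₂ s, ?_⟩
          convert mul_mem (inv_mem h1) (hDW ⟨s, rfl⟩) using 1
          exact Prod.ext (by simp [hs]) rfl⟩ le_sup_left
    exact hx ⟨y, hle (mem_sup_right (mem_zpowers _))⟩
  have hb1 : Function.Bijective ((MonoidHom.fst Q₁ Q₂).comp W.subtype) := by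
    refine ⟨(injective_iff_map_eq_one _).mpr fun w hw => ?_, fun x => ?_⟩
    · have hw' : w.1.1 = 1 := hw
      obtain ⟨s, hs⟩ := hW0 _ w.2 (by rw [hw', map_one_of_mul h₁.π_mul])
      have : s = 0 := h₁.inj (by rw [map_zero_of_add h₁.ι_add, ← hw', hs])
      exact Subtype.ext (by rw [hs, this, map_zero_of_add h₁.ι_add, map_zero_of_add h₂.ι_add]; rfl)
    · obtain ⟨y, hy⟩ := hs1 x
      exact ⟨⟨_, hy⟩, rfl⟩
  have hb2 : Function.Bijective ((MonoidHom.snd Q₁ Q₂).comp W.subtype) := by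
    refine ⟨(injective_iff_map_eq_one _).mpr fun w hw => ?_, fun y => ?_⟩
    · have hw' : w.1.2 = 1 := hw
      obtain ⟨s, hs⟩ := hW0 _ w.2 (by
        rw [show π₁ w.1.1 = π₂ w.1.2 from hWE w.2, hw', map_one_of_mul h₂.π_mul])
      have : s = 0 := h₂.inj (by rw [map_zero_of_add h₂.ι_add, ← hw', hs])
      exact Subtype.ext (by rw [hs, this, map_zero_of_add h₁.ι_add, map_zero_of_add h₂.ι_add]; rfl)
    · obtain ⟨x, hx⟩ := h₁.surj (π₂ y)
      obtain ⟨y', hy'⟩ := hs1 x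
      obtain ⟨s, hs⟩ := (h₂.ker (y'⁻¹ * y)).mp (by
        rw [h₂.π_mul, map_inv_of_mul h₂.π_mul, ← hx, show π₁ x = π₂ y' from hWE hy',
          neg_add_cancel])
      exact ⟨⟨_, mul_mem hy' (hDW ⟨s, rfl⟩)⟩, by simp [hs]⟩
  exact ⟨(MulEquiv.ofBijective _ hb1).symm.trans (MulEquiv.ofBijective _ hb2)⟩

variable {F : Type*} [Field F]

/-- the fixed field -/
def Herm.Kf (H : Herm F) : Subfield F := H.σ.eqLocusField (RingHom.id F)

theorem Herm.mem_Kf (H : Herm F) {x : F} : x ∈ H.Kf ↔ H.σ x = x := Iff.rfl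

theorem Herm.card_Kf (H : Herm F) : Nat.card H.Kf = Nat.card H.K := rfl

theorem Herm.two_Kf (H : Herm F) : (2 : H.Kf) = 0 := Subtype.ext H.two

instance instFiniteHeis [Finite F] : Finite (Heis F) := Finite.of_equiv _ Heis.equivProd.symm

theorem sqExt_heis (h2 : (2 : F) = 0) :
    SqExt (Heis F) (fun x => (x.a, x.b)) (fun z => ⟨0, 0, z⟩) (fun v : F × F => v.1 * v.2) where
  π_mul _ _ := rfl
  surj v := ⟨⟨v.1, v.2, 0⟩, rfl⟩
  ι_add s t := by ext <;> simp
  inj s t h := congrArg Heis.c h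
  cen s x := by ext <;> simp [add_comm]
  ker x := ⟨fun h => ⟨x.c, Heis.ext (congrArg Prod.fst h).symm (congrArg Prod.snd h).symm rfl⟩,
    by rintro ⟨s, rfl⟩; rfl⟩
  sq x := by ext <;> simp [pow_two] <;> grind

theorem exists_sqExt_U3 (H : Herm F) : ∃ (b : H.Kf) (π : U3 H → H.Kf × H.Kf) (ι : H.Kf → U3 H),
    (∀ t, t * t + t ≠ b) ∧ SqExt (U3 H) π ι (fun v => v.1 * v.1 + v.1 * v.2 + b * (v.2 * v.2)) := by
  have h2 := H.two
  have hω := H.trω
  refine ⟨⟨H.ω * H.σ H.ω, H.mem_Kf.mpr (by rw [map_mul, H.invol, mul_comm])⟩,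
    fun x => (⟨x.a + (x.a + H.σ x.a) * H.ω, H.mem_Kf.mpr (by
      simp only [map_add, map_mul, H.invol]; grind)⟩, ⟨x.a + H.σ x.a, H.mem_Kf.mpr (by
      simp only [map_add, H.invol]; grind)⟩), fun z => U3.cen z z.2, ?_, ?_, ?_, ?_, ?_, ?_, ?_, ?_⟩
  · rintro ⟨t, ht⟩ h
    have h1 : t * t + t = H.ω * H.σ H.ω := congrArg Subtype.val h
    have h3 : (t + H.ω) * (t + H.σ H.ω) = 0 := by grind
    rw [Herm.mem_Kf] at ht
    rcases mul_eq_zero.mp h3 with h4 | h4 <;>
    · have h5 := congrArg H.σ h4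
      simp only [map_add, ht, H.invol, map_zero] at h5
      grind
  · intro x y
    ext <;> simp <;> ring
  · rintro ⟨⟨s, hs⟩, ⟨t, ht⟩⟩
    rw [Herm.mem_Kf] at hs ht
    refine ⟨U3.sec H (s + t * H.ω), ?_⟩
    ext <;> simp [hs, ht] <;> grind
  · intro s t
    ext <;> simp [U3.cen]
  · intro s t h
    exact Subtype.ext (congrArg U3.b h)
  · intro s x
    ext <;> simp [U3.cen, add_comm]
  · intro x
    constructor
    · intro h
      have h3 := congrArg (fun v : H.Kf × H.Kf => (v.1 : F)) h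
      have h4 := congrArg (fun v : H.Kf × H.Kf => (v.2 : F)) h
      simp only [Prod.fst_zero, Prod.snd_zero, ZeroMemClass.coe_zero] at h3 h4
      have h5 : x.a = 0 := by grind
      have h6 := x.h
      exact ⟨⟨x.b, H.mem_Kf.mpr (by grind)⟩, U3.ext h5.symm rfl⟩
    · rintro ⟨s, rfl⟩
      ext <;> simp [U3.cen]
  · intro x
    refine U3.ext (U3.sq_a x) ?_
    rw [U3.sq_b]
    simp [U3.cen]
    grind

theorem add_mem_wp {K : Type*} [Field K] [Finite K] (h2 : (2 : K) = 0) {a b : K}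
    (ha : ∀ t, t * t + t ≠ a) (hb : ∀ t, t * t + t ≠ b) : ∃ t, t * t + t = a + b := by
  let f : K →+ K := AddMonoidHom.mk' (fun t => t * t + t) fun s t => by grind
  have h1 : f.range.index = 2 := by
    rw [AddSubgroup.index_range]
    have : (f.ker : Set K) = {0, 1} := by
      ext t
      change t * t + t = 0 ↔ t = 0 ∨ t = 1
      grind
    rw [← Set.ncard_pair (zero_ne_one (α := K)), ← this]
    exact Nat.card_coe_set_eq (f.ker : Set K)
  exact (AddSubgroup.add_mem_iff_of_index_two h1).mpr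
    (iff_of_false (fun ⟨t, h⟩ => ha t h) fun ⟨t, h⟩ => hb t h)

/-- hypotheses: a group `Q` with central subgroup `u(K)` containing all squares, and an action
of the field `K` -/
structure FieldAct (Q : Type*) [Group Q] {K : Type*} [Field K] (u : K → Q) (act : K → Q →* Q) :
    Prop where
  two : (2 : K) = 0
  add : ∀ s t, u (s + t) = u s * u t
  inj : Function.Injective u
  cen : ∀ s x, x * u s = u s * x
  sq : ∀ x, ∃ s, x ^ 2 = u s
  act_u : ∀ t s, act t (u s) = u (t * s)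
  act_add : ∀ t x, ∃ s, act (t + 1) x = act t x * x * u s
  act_mul : ∀ s t x, act (s * t) x = act s (act t x)

theorem FieldAct.exists_forms {Q K : Type*} [Group Q] [Field K] [Finite K] {u : K → Q}
    {act : K → Q →* Q} (h : FieldAct Q u act) :
    ∃ (ι : K → Q) (N : Q → K) (B : Q → Q → K), (∀ s t, ι (s + t) = ι s * ι t) ∧
      Function.Injective ι ∧ (∀ s x, x * ι s = ι s * x) ∧ (∀ x, x ^ 2 = ι (N x)) ∧
      (∀ x y, ⁅x, y⁆ = ι (B x y)) ∧ (∀ x y, N (x * y) = N x + N y + B x y) ∧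
      (∀ x y z, B (x * y) z = B x z + B y z) ∧ (∀ x y, B x y = B y x) ∧ (∀ x, B x x = 0) ∧
      (∀ t x, N (act t x) = t * t * N x) ∧ (∀ t x y, B (act t x) y = t * B x y) := by
  have h2 := h.two
  have := charP_two_of h2
  have u0 := map_zero_of_add h.add
  have u2 : ∀ s, u s * u s = 1 := fun s => by rw [← h.add, CharTwo.add_self_eq_zero, u0]
  choose n hn using h.sq
  have hb : ∀ x y, ⁅x, y⁆ = u (n (x * y) + n x + n y) := by
    intro x y
    have e1 : x⁻¹ = x * u (n x) := by rw [inv_eq_iff_mul_eq_one, ← mul_assoc, ← pow_two, hn, u2]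
    have e2 : y⁻¹ = y * u (n y) := by rw [inv_eq_iff_mul_eq_one, ← mul_assoc, ← pow_two, hn, u2]
    rw [h.add, h.add, ← hn (x * y), commutatorElement_def, e1, e2, pow_two]
    simp only [mul_assoc]
    rw [← mul_assoc (u (n x)), ← h.cen, mul_assoc]
  set b : Q → Q → K := fun x y => n (x * y) + n x + n y with hbd
  have hb' : ∀ x y, ⁅x, y⁆ = u (b x y) := hb
  have b1 : ∀ x y z, b (x * y) z = b x z + b y z := fun x y z => h.inj (by
    rw [← hb', commutatorElement_mul_left_eq_conj_mul, hb', hb', h.cen (b y z) x,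
      mul_inv_cancel_right, ← h.add, add_comm])
  have b2 : ∀ x y, b x y = b y x := fun x y => h.inj (by
    rw [← hb', ← commutatorElement_inv, hb', inv_eq_iff_mul_eq_one, u2])
  have b3 : ∀ x, b x x = 0 := fun x => h.inj (by rw [← hb', u0, commutatorElement_self])
  have b4 : ∀ s y, b (u s) y = 0 := fun s y => h.inj (by
    rw [← hb', u0, commutatorElement_eq_one_iff_mul_comm, h.cen])
  have b5 : ∀ t x y, b (act t x) (act t y) = t * b x y := fun t x y => h.inj (by
    rw [← hb', ← map_commutatorElement, hb', h.act_u])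
  have b6 : ∀ t x y, b (act t x) y = b x (act t y) := by
    intro t x y
    obtain ⟨s, hs⟩ := h.act_add t x
    obtain ⟨s', hs'⟩ := h.act_add t y
    have e := b5 (t + 1) x y
    rw [hs, hs', b1, b1, b4, b2 (act t x), b2 x, b1, b1, b1, b1, b4, b4, b5, b2 y x,
      b2 y (act t x), b2 (act t y) x] at e
    grind
  let r := (frobeniusEquiv K 2).symm
  have hr : ∀ t, r t * r t = t := fun t => by
    rw [← pow_two, ← frobenius_def]; exact frobenius_apply_frobeniusEquiv_symm K 2 t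
  have hr' : ∀ t, r (t * t) = t := fun t => by
    rw [← pow_two, ← frobenius_def]; exact frobeniusEquiv_symm_apply_frobenius K 2 t
  refine ⟨fun t => u (r t), fun x => n x * n x, fun x y => b x y * b x y, fun s t => ?_,
    h.inj.comp r.injective, fun s x => h.cen _ x, fun x => ?_, fun x y => ?_, fun x y => ?_,
    fun x y z => ?_, fun x y => ?_, fun x => ?_, fun t x => ?_, fun t x y => ?_⟩
  · simp only [map_add, h.add]
  · simp only [hr', hn]
  · simp only [hr', hb']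
  · simp only [hbd]; grind
  · simp only [b1]; grind
  · simp only [b2 x y]
  · simp only [b3, mul_zero]
  · have : n (act t x) = t * n x := h.inj (by rw [← hn, ← map_pow, hn, h.act_u])
    simp only [this]; ring
  · have : b (act t x) y = r t * b x y := by
      conv_lhs => rw [← hr t, h.act_mul, b6, b5]
    simp only [this]
    linear_combination (b x y * b x y) * hr t

theorem FieldAct.nonempty_equiv [Finite F] (H : Herm F) {Q : Type*} [Group Q] [Finite Q]
    {u : H.Kf → Q} {act : H.Kf → Q →* Q} (h : FieldAct Q u act)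
    (hc : Nat.card Q = Nat.card H.Kf ^ 3) (hna : ¬ IsMulCommutative Q) :
    Nonempty (Q ≃* U3 H) ∨ Nonempty (Q ≃* Heis H.Kf) := by
  have h2 := h.two
  obtain ⟨ι, N, B, i1, i2, i3, hN, hB, n1, b1, b2, b3, n2, b4⟩ := h.exists_forms
  have i0 := map_zero_of_add i1
  have key : ∀ e f, B e f = 1 → SqExt Q (fun x => (B x f, B x e)) ι
      (fun v => N e * (v.1 * v.1) + v.1 * v.2 + N f * (v.2 * v.2)) := by
    intro e f hef
    have hp : ∀ s t, (B (act s e * act t f) f, B (act s e * act t f) e) = (s, t) := by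
      intro s t
      rw [b1, b1, b4, b4, b4, b4, b3, b3, b2 f e, hef]
      simp
    have hι : ∀ s y, B (ι s) y = 0 := fun s y => i2 (by
      rw [← hB, i0, commutatorElement_eq_one_iff_mul_comm, i3])
    let p : Q →* Multiplicative (H.Kf × H.Kf) :=
      MonoidHom.mk' (fun x => Multiplicative.ofAdd (B x f, B x e)) fun x y => by
        rw [b1, b1]; rfl
    have hps : Function.Surjective p := fun v => ⟨_, congrArg Multiplicative.ofAdd (hp v.1 v.2)⟩
    have hk : Function.Surjective (fun s => (⟨ι s, by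
        change Multiplicative.ofAdd (B (ι s) f, B (ι s) e) = 1
        rw [hι, hι]; rfl⟩ : p.ker)) := by
      refine (Function.Injective.bijective_of_nat_card_le (fun s t hst => i2 ?_) ?_).2
      · exact congrArg Subtype.val hst
      · have := p.ker.card_mul_index
        rw [index_ker, MonoidHom.range_eq_top.mpr hps, card_top, hc,
          Nat.card_congr Multiplicative.toAdd, Nat.card_prod, pow_three] at this
        exact (Nat.eq_of_mul_eq_mul_right (Nat.mul_pos Nat.card_pos Nat.card_pos) this).le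
    have hker : ∀ x, (B x f, B x e) = 0 ↔ ∃ s, ι s = x := fun x =>
      ⟨fun hx => by
        obtain ⟨s, hs⟩ := hk ⟨x, congrArg Multiplicative.ofAdd hx⟩
        exact ⟨s, congrArg Subtype.val hs⟩, by rintro ⟨s, rfl⟩; rw [hι, hι]; rfl⟩
    refine ⟨fun x y => by rw [b1, b1]; rfl, fun v => ⟨_, hp v.1 v.2⟩, i1, i2, i3, hker, fun x => ?_⟩
    obtain ⟨s, hs⟩ := (hker ((act (B x f) e * act (B x e) f)⁻¹ * x)).mp (by
      have := p.map_mul (act (B x f) e * act (B x e) f)⁻¹ x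
      rw [map_inv] at this
      refine (congrArg Multiplicative.toAdd this).trans ?_
      change -(B _ f, B _ e) + _ = 0
      rw [hp]; exact neg_add_cancel _)
    have e1 : x ^ 2 = (act (B x f) e * act (B x e) f) ^ 2 := by
      generalize act (B x f) e * act (B x e) f = y at hs
      have : x = y * ι s := by rw [hs, mul_inv_cancel_left]
      rw [this, (show Commute y (ι s) from i3 s y).mul_pow, pow_two (ι s), ← i1,
        show s + s = 0 by grind, i0, mul_one]
    rw [e1, hN, n1, n2, n2, b4, b2 e, b4, b2 f e, hef]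
    congr 1
    ring
  have hscale : ∀ e f, B e f ≠ 0 → ∃ f', B e f' = 1 := fun e f hef =>
    ⟨act (B e f)⁻¹ f, by rw [b2 e (act _ _), b4, b2 f e, inv_mul_cancel₀ hef]⟩
  obtain ⟨e, f, hef⟩ : ∃ e f, B e f ≠ 0 := by
    by_contra hne
    push Not at hne
    exact hna ⟨⟨fun x y => commutatorElement_eq_one_iff_mul_comm.mp (by rw [hB, hne, i0])⟩⟩
  obtain ⟨f, hef⟩ := hscale e f hef
  by_cases hiso : ∃ e f, B e f = 1 ∧ N e = 0
  · obtain ⟨e, f, h3, h4⟩ := hiso
    have h5 := key e (act (N f) e * f) (by rw [b2, b1, b4, b3, b2, h3]; simp)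
    rw [n1, n2, b4, h3, h4, show N f * N f * 0 + N f + N f * 1 = 0 by grind] at h5
    right
    simp only [zero_mul, zero_add, add_zero] at h5
    exact h5.nonempty_equiv (sqExt_heis h2)
  push Not at hiso
  left
  obtain ⟨b0, π, ι', hb0, hU⟩ := exists_sqExt_U3 H
  have := charP_two_of h2
  obtain ⟨s, hs⟩ := (frobeniusEquiv H.Kf 2).surjective (N e)
  rw [frobeniusEquiv_def, pow_two] at hs
  have hs0 : s ≠ 0 := fun h0 => hiso e f hef (by rw [← hs, h0, mul_zero])
  have h3 : B (act s⁻¹ e) (act s f) = 1 := by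
    rw [b4, b2, b4, b2, hef, mul_one, inv_mul_cancel₀ hs0]
  have h4 : N (act s⁻¹ e) = 1 := by rw [n2, ← hs]; field_simp
  generalize act s⁻¹ e = e at h3 h4
  generalize act s f = f at h3
  have h5 : ∀ t, B (act t e * f) e = 1 := fun t => by rw [b1, b4, b3, b2, h3]; simp
  have h6 : ∀ t, N (act t e * f) = t * t + t + N f := fun t => by
    rw [n1, n2, b4, h3, h4]; ring
  obtain ⟨t, ht⟩ := add_mem_wp h2 (a := N f) (fun t ht => hiso _ _ (h5 t) (by
    rw [h6, ht]; grind)) hb0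
  have h7 := key e (act t e * f) (by rw [b2, h5])
  rw [h4, h6, ht, show N f + b0 + N f = b0 by grind] at h7
  simp only [one_mul] at h7
  exact h7.nonempty_equiv hU

theorem exists_fieldAct {Q K : Type*} [Group Q] [Field K] [Finite K] {u : K → Q} {ρ : MulAut Q}
    {l : K} (two : (2 : K) = 0) (add : ∀ s t, u (s + t) = u s * u t) (inj : Function.Injective u)
    (cen : ∀ s x, x * u s = u s * x) (hsq : ∀ x, ∃ s, x ^ 2 = u s) (hρ : ∀ t, ρ (u t) = u (l * t))
    (hl : ∀ t : K, t ≠ 0 → ∃ k : ℕ, l ^ k = t) (hord : ρ ^ (Nat.card K - 1) = 1)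
    (hrel : ∀ i j : ℕ, l ^ i + 1 = l ^ j → ∀ x, ∃ s, (ρ ^ j) x = (ρ ^ i) x * x * u s) :
    ∃ act, FieldAct Q u act := by
  classical
  have u0 := map_zero_of_add add
  have hl0 : l ≠ 0 := by
    rintro rfl
    exact one_ne_zero (inj (ρ.injective (by rw [hρ, hρ]; simp)) : (1 : K) = 0)
  have ho : orderOf (Units.mk0 l hl0) = Nat.card K - 1 := by
    rw [← Nat.card_units]
    refine orderOf_eq_card_of_forall_mem_powers fun x => ?_
    obtain ⟨k, hk⟩ := hl x x.ne_zero
    exact ⟨k, Units.ext (by simpa using hk)⟩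
  have hij : ∀ i j : ℕ, l ^ i = l ^ j → ρ ^ i = ρ ^ j := by
    intro i j h
    have : Units.mk0 l hl0 ^ i = Units.mk0 l hl0 ^ j := Units.ext (by simpa using h)
    rw [pow_eq_pow_iff_modEq, ho] at this
    exact pow_eq_pow_iff_modEq.mpr (this.of_dvd (orderOf_dvd_of_pow_eq_one hord))
  let act : K → Q →* Q := fun t => if h : t = 0 then 1 else (ρ ^ (hl t h).choose).toMonoidHom
  have a0 : ∀ x, act 0 x = 1 := fun x => by simp [act]
  have a1 : ∀ (k : ℕ) x, act (l ^ k) x = (ρ ^ k) x := fun k x => by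
    simp only [act, dif_neg (pow_ne_zero k hl0)]
    rw [hij _ _ (hl _ (pow_ne_zero k hl0)).choose_spec]; rfl
  have hcase : ∀ t : K, t = 0 ∨ ∃ k : ℕ, t = l ^ k := fun t =>
    (eq_or_ne t 0).imp id fun h => (hl t h).imp fun _ h => h.symm
  refine ⟨act, two, add, inj, cen, hsq, fun t s => ?_, fun t x => ?_, fun s t x => ?_⟩
  · rcases hcase t with rfl | ⟨k, rfl⟩
    · rw [a0, zero_mul, u0]
    · rw [a1]
      induction k with
      | zero => simp
      | succ k ih => rw [pow_succ', MulAut.mul_apply, ih, hρ, pow_succ', mul_assoc]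
  · rcases hcase t with rfl | ⟨i, rfl⟩
    · exact ⟨0, by simpa [a0, u0] using a1 0 x⟩
    rcases hcase (l ^ i + 1) with h | ⟨j, h⟩
    · obtain ⟨s, hs⟩ := hsq x
      refine ⟨s, ?_⟩
      rw [h, a0, show l ^ i = l ^ 0 by grind, a1, pow_zero, MulAut.one_apply, ← pow_two, hs,
        ← add, show s + s = 0 by grind, u0]
    · rw [h, a1, a1]; exact hrel i j h x
  · rcases hcase s with rfl | ⟨i, rfl⟩
    · rw [zero_mul, a0, a0]
    rcases hcase t with rfl | ⟨j, rfl⟩
    · rw [mul_zero, a0, map_one]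
    · rw [← pow_add, a1, a1, a1, pow_add, MulAut.mul_apply]

/-- bi-additive maps that are homogeneous for a Singer cycle -/
theorem bil_sq {Q K : Type*} [Group Q] [Field K] [Finite K] (two : (2 : K) = 0) {l : K}
    (hl : ∀ t : K, t ≠ 0 → ∃ k : ℕ, l ^ k = t) (X Y : Subgroup Q) (ρ : Q → Q)
    (hX : ∀ x ∈ X, ρ x ∈ X) (hY : ∀ y ∈ Y, ρ y ∈ Y) (f g : Q → K) (b : Q → Q → K)
    (f1 : ∀ x ∈ X, ∀ x' ∈ X, f (x * x') = f x + f x')
    (g1 : ∀ y ∈ Y, ∀ y' ∈ Y, g (y * y') = g y + g y')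
    (f2 : ∀ x ∈ X, f (ρ x) = l * f x) (g2 : ∀ y ∈ Y, g (ρ y) = l * g y)
    (b1 : ∀ x ∈ X, ∀ x' ∈ X, ∀ y ∈ Y, b (x * x') y = b x y + b x' y)
    (b2 : ∀ x ∈ X, ∀ y ∈ Y, ∀ y' ∈ Y, b x (y * y') = b x y + b x y')
    (b3 : ∀ x ∈ X, ∀ y ∈ Y, b (ρ x) (ρ y) = l * b x y)
    (f0 : ∀ x ∈ X, f x = 0 → ∀ y ∈ Y, b x y = 0) (g0 : ∀ y ∈ Y, g y = 0 → ∀ x ∈ X, b x y = 0)
    (fs : ∀ t, ∃ x ∈ X, f x = t) (gs : ∀ t, ∃ y ∈ Y, g y = t) :
    ∃ c, ∀ x ∈ X, ∀ y ∈ Y, b x y * b x y = c * f x * g y := by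
  choose sx hsx hfx using fs
  choose sy hsy hgy using gs
  have e1 : ∀ x ∈ X, ∀ x' ∈ X, f x = f x' → ∀ y ∈ Y, b x y = b x' y := by
    intro x hx x' hx' h y hy
    have h1 := f1 x hx _ (mul_mem (inv_mem hx) hx')
    have h2 := b1 x hx _ (mul_mem (inv_mem hx) hx') y hy
    rw [mul_inv_cancel_left] at h1 h2
    rw [h2, f0 _ (mul_mem (inv_mem hx) hx') (by grind) y hy, add_zero]
  have e2 : ∀ y ∈ Y, ∀ y' ∈ Y, g y = g y' → ∀ x ∈ X, b x y = b x y' := by
    intro y hy y' hy' h x hx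
    have h1 := g1 y hy _ (mul_mem (inv_mem hy) hy')
    have h2 := b2 x hx y hy _ (mul_mem (inv_mem hy) hy')
    rw [mul_inv_cancel_left] at h1 h2
    rw [h2, g0 _ (mul_mem (inv_mem hy) hy') (by grind) x hx, add_zero]
  let β : K → K → K := fun s t => b (sx s) (sy t)
  have hβ : ∀ x ∈ X, ∀ y ∈ Y, b x y = β (f x) (g y) := fun x hx y hy =>
    (e1 x hx _ (hsx _) (hfx _).symm y hy).trans (e2 y hy _ (hsy _) (hgy _).symm _ (hsx _))
  have β1 : ∀ s s' t, β (s + s') t = β s t + β s' t := fun s s' t => by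
    have := hβ _ (mul_mem (hsx s) (hsx s')) _ (hsy t)
    rw [f1 _ (hsx _) _ (hsx _), hfx, hfx, hgy, b1 _ (hsx _) _ (hsx _) _ (hsy _)] at this
    exact this.symm
  have β2 : ∀ s t t', β s (t + t') = β s t + β s t' := fun s t t' => by
    have := hβ _ (hsx s) _ (mul_mem (hsy t) (hsy t'))
    rw [g1 _ (hsy _) _ (hsy _), hfx, hgy, hgy, b2 _ (hsx _) _ (hsy _) _ (hsy _)] at this
    exact this.symm
  have β3 : ∀ r s t, β (r * s) (r * t) = r * β s t := by
    intro r s t
    rcases eq_or_ne r 0 with rfl | hr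
    · have := β1 0 0 0
      simp only [zero_mul, add_zero] at this ⊢
      grind
    obtain ⟨k, rfl⟩ := hl r hr
    clear hr
    induction k with
    | zero => simp
    | succ k ih =>
      have := hβ _ (hX _ (hsx (l ^ k * s))) _ (hY _ (hsy (l ^ k * t)))
      rw [f2 _ (hsx _), g2 _ (hsy _), hfx, hgy, b3 _ (hsx _) _ (hsy _)] at this
      rw [pow_succ', mul_assoc, mul_assoc, ← this, mul_assoc, ← ih]
  have β4 : ∀ r s t, β (r * s) t = β s (r * t) := fun r s t => by
    have := β3 (r + 1) s t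
    rw [add_mul, add_mul, one_mul, one_mul, β1, β2, β2, β3] at this
    grind
  have := charP_two_of two
  refine ⟨β 1 1 * β 1 1, fun x hx y hy => ?_⟩
  obtain ⟨r, hr⟩ := (frobeniusEquiv K 2).surjective (f x * g y)
  rw [frobeniusEquiv_def, pow_two] at hr
  have : β (f x) (g y) = r * β 1 1 := by
    rw [← β3, β4, mul_one, hr, ← β4, mul_one]
  rw [hβ x hx y hy, this]
  linear_combination (β 1 1 * β 1 1) * hr

end H2
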