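import Cfsg.Agent.H2.M11a

/-! Simple groups of order 95040: the principal 11-block. -/

set_option autoImplicit false
set_option linter.unusedSectionVars false

namespace H2
open Cfsg H8 Subgroup
open scoped ComplexConjugate

variable {G : Type*} [Group G] [Fintype G] [IsSimpleGroup G] {x y : G}

theorem of_mem_vals {m K C q a : ℤ} (h : a ∈ vals m K C q) :
    m ∣ a - q ∧ q ∣ K * a ∧ a * a < C ∧ a * a < q * q := by
  simp only [vals, List.mem_filter, Bool.and_eq_true, beq_iff_eq, decide_eq_true_eq] at h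
  exact ⟨Int.dvd_of_emod_eq_zero h.2.1.1.1, Int.dvd_of_emod_eq_zero h.2.1.1.2, h.2.1.2, h.2.2⟩

theorem Full.q_mem {p : ℕ} [Fact p.Prime] {h : DefOne p x} {n L : ℕ} (F : Full h n) (hL : 0 < L)
    (hd : (Cx x).index ∣ L) (j : Fin n) : F.s j * deg (F.c j) ∈ sdv L :=
  mem_sdv hL (sgn_dvd (F.s_eq j) ((F.dvd j).trans hd))

theorem sq_q_le {s : ℤ} (hs : s = 1 ∨ s = -1) (χ : IrrCharacter G) :
    s * deg χ * (s * deg χ) ≤ Nat.card G := by
  rw [mul_mul_mul_comm, sgn_sq hs, one_mul]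
  exact_mod_cast deg_sq_le _

theorem Full.lin' {p : ℕ} [Fact p.Prime] {h : DefOne p x} {n : ℕ} (F : Full h n) {g : G}
    (hg : ¬ p ∣ orderOf g) {a : Fin n → ℤ} (ha : ∀ j, (F.c j).1 g = a j) :
    1 + ∑ j, F.s j * a j = 0 := by
  have := F.lin g hg
  simp only [ha] at this
  exact_mod_cast this

theorem Full.val_mod {p : ℕ} [Fact p.Prime] {h : DefOne p x} {n : ℕ} (F : Full h n) (j : Fin n)
    {v : G} (hv : v ∈ h.V) {a : ℤ} (ha : (F.c j).1 v = a) : (p : ℤ) ∣ F.s j * a - 1 := by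
  have := (dvd_val_sub h (F.c j) hv ha (F.val_mul j hv)).mul_left (-F.s j)
  rwa [show -F.s j * (F.s j - a) = F.s j * a - F.s j * F.s j by ring, sgn_sq (F.s_eq j)] at this

namespace M12
variable (hN : Nat.card G = 95040)
include hN

theorem nc : ¬ IsMulCommutative G := not_comm_of_card_not_prime (by rw [hN]; norm_num)

theorem perf : _root_.commutator G = ⊤ := commutator_eq_top_of_simple (nc hN)

theorem card_Cx_le {g : G} (hg : g ≠ 1) : Nat.card (Cx g) ≤ 8640 := by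
  have h1 := two_mul_card_dvd_factorial_index (nc hN) (Cx g) (centralizer_ne_top (nc hN) g hg)
  have h2 := (Cx g).card_mul_index
  have h3 : 11 ≤ (Cx g).index := by
    by_contra h3
    have := h1.trans (Nat.factorial_dvd_factorial (show _ ≤ 10 by omega))
    rw [hN] at this
    revert this; decide
  rw [hN] at h2
  nlinarith

theorem index_eq (g : G) : (Cx g).index = 95040 / Nat.card (Cx g) := by
  rw [← hN, ← (Cx g).card_mul_index, Nat.mul_div_cancel_left _ Nat.card_pos]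

theorem not_ten (h : DefOne 11 x) (he : Nat.card h.H = 10) (hv : Nat.card h.V = 6)
    (hL : (Cx x).index = 1440) : False := by
  obtain ⟨F⟩ := exists_full h (n := 10) rfl he
  obtain ⟨u, hu, hu2⟩ := exists_mem_V h 2 (by rw [hv]; decide)
  have hu1 : u ≠ 1 := by rintro rfl; simp at hu2
  have hV : h.V ≠ ⊥ := fun e => by simp [e] at hv
  choose a ha ha' using fun j => inv_val (perf hN) (F.c j) (z := u) (hu2 ▸ pow_orderOf_eq_one u)
  have k1 : ∀ q ∈ sdv 1440, (11 : ℤ) ∣ q - 1 → 22 < q.natAbs → q * q ≤ 95040 →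
      q = -32 ∨ q = 45 ∨ q = -120 ∨ q = 144 := by decide +kernel
  have h1 : ∀ j, F.s j * deg (F.c j) = -32 ∨ F.s j * deg (F.c j) = 45 ∨
      F.s j * deg (F.c j) = -120 ∨ F.s j * deg (F.c j) = 144 := fun j =>
    k1 _ (F.q_mem (by norm_num) (hL ▸ dvd_rfl) j) (F.mod j) (by
      have := F.large (perf hN) hV j
      rcases F.s_eq j with e | e <;> simpa [e]) (by
      have := sq_q_le (F.s_eq j) (F.c j)
      rwa [hN] at this)
  have h2 := fun j => of_mem_vals (signed_val (nc hN) (F.ne_one j) (F.s_eq j) hu1 (ha j) (ha' j)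
    (card_Cx_le hN hu1))
  have h3 := fun j => F.val_mod j hu (ha j)
  have h4 := F.sum_deg
  obtain ⟨j, hj⟩ : ∃ j, F.s j * deg (F.c j) = 45 := by
    by_contra h5
    have : (2 : ℤ) ∣ ∑ j, F.s j * deg (F.c j) := Finset.dvd_sum fun j _ => by
      have := h1 j
      have := not_exists.1 h5 j
      omega
    omega
  obtain ⟨k, hk⟩ : ∃ j, F.s j * deg (F.c j) = -32 := by
    by_contra h5
    have : (3 : ℤ) ∣ ∑ j, F.s j * deg (F.c j) := Finset.dvd_sum fun j _ => by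
      have := h1 j
      have := not_exists.1 h5 j
      omega
    omega
  have h5 : (45 : ℤ) ∣ (Cx u).index := by
    obtain ⟨e1, e2, -, e3⟩ := h2 j
    have e4 := h3 j
    rw [hj] at e1 e2 e3
    generalize F.s j * a j = A at *
    have e5 : -45 < A ∧ A < 45 := by constructor <;> nlinarith
    obtain rfl | rfl : A = 1 ∨ A = -43 := by omega
    all_goals omega
  have h6 : (8 : ℤ) ∣ (Cx u).index := by
    obtain ⟨e1, e2, -, e3⟩ := h2 k
    have e4 := h3 k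
    rw [hk] at e1 e2 e3
    generalize F.s k * a k = A at *
    have e5 : -32 < A ∧ A < 32 := by constructor <;> nlinarith
    obtain rfl : A = 12 := by omega
    rw [neg_dvd] at e2
    omega
  have h7 : Nat.card (Cx u) ≤ 264 := by
    have e1 := (Cx u).card_mul_index
    have e2 := index_Cx_pos u
    have e3 : 360 ≤ (Cx u).index := by omega
    rw [hN] at e1
    nlinarith
  have h8 := F.lin' (g := u) (by rw [hu2]; decide) ha
  have h9 : 0 ≤ ∑ j, F.s j * a j := Finset.sum_nonneg fun j _ => by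
    obtain ⟨e1, -, e2, -⟩ := h2 j
    have e4 := h3 j
    generalize F.s j * a j = A at *
    have e5 : -17 < A := by nlinarith
    rcases h1 j with e | e | e | e <;> rw [e] at e1 <;> omega
  omega

theorem loc11 (h : DefOne 11 x) : h.V = ⊥ ∧ Nat.card h.H = 5 ∧ (Cx x).index = 8640 ∧
    Nat.card (Cx x) = 11 ∧ Nat.card (Nx x) = 55 := by
  obtain ⟨h1, h2, h3, h4, h5⟩ := loc_num (nc hN) h (m := 8640) hN
  have h6 := h.index_Cx
  have h7 := h.card_Cx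
  have h8 := h.card_Nx
  have hV : Nat.card h.V = 1 ↔ h.V = ⊥ := card_eq_one
  have hn : ∀ n ∈ dvs 8640, n % 11 = 1 → n = 1 ∨ n = 12 ∨ n = 45 ∨ n = 144 ∨ n = 320 ∨ n = 540 ∨
      n = 1728 := by decide +kernel
  have he : ∀ e ∈ dvs 10, 1 < e → e = 2 ∨ e = 5 ∨ e = 10 := by decide
  have h9 := hn _ (mem_dvs (by norm_num) (h1 ▸ (dvd_mul_right _ _).mul_right _)) h2
  have h10 := he _ (mem_dvs (by norm_num) h4) h5
  by_cases h11 : h.V = ⊥
  · rw [hV.2 h11] at h1 h7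
    refine ⟨h11, ?_⟩
    rcases h9 with h9 | h9 | h9 | h9 | h9 | h9 | h9 <;> rcases h10 with h10 | h10 | h10 <;>
      rw [h9, h10] at h1 h6 <;> rw [h10, h7] at h8 <;> omega
  exfalso
  have k1 : ∀ L ∈ [24, 90, 288, 1080], ∀ q ∈ sdv L, (11 : ℤ) ∣ q - 1 → 22 < q.natAbs →
      -1 - q ∉ sdv L := by decide +kernel
  have k2 : ∀ L ∈ [60, 720], ∀ q ∈ sdv L, (11 : ℤ) ∣ q - 1 ∨ (11 : ℤ) ∣ q + 5 → 22 < q.natAbs →
      3 ∣ q := by decide +kernel
  have k3 : ∀ q ∈ sdv 120, 22 < q.natAbs → 2 ∣ q := by decide +kernel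
  have c2 : ∀ L ∈ [24, 90, 288, 1080], Nat.card h.H = 2 → (Cx x).index = L → False :=
    fun L hL e1 e2 => by
    obtain ⟨q, d, a1, a2, -, -, a3⟩ := blk_data (nc hN) h h11 (n := 1) e1 e2
    rw [Fin.sum_univ_one] at a3
    exact k1 L hL _ (a1 0).1 (a1 0).2.1 (a1 0).2.2.1 (by rwa [show -1 - q 0 = d by omega])
  have c5 : ∀ L ∈ [60, 720], Nat.card h.H = 5 → (Cx x).index = L → False := fun L hL e1 e2 => by
    obtain ⟨q, d, a1, a2, a3, a4, a5⟩ := blk_data (nc hN) h h11 (n := 4) e1 e2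
    have b1 := k2 L hL d a2 (Or.inr a3) a4
    have b2 : (3 : ℤ) ∣ ∑ j, q j := Finset.dvd_sum fun j _ =>
      k2 L hL _ (a1 j).1 (Or.inl (a1 j).2.1) (a1 j).2.2.1
    omega
  rcases h9 with h9 | h9 | h9 | h9 | h9 | h9 | h9 <;> rcases h10 with h10 | h10 | h10 <;>
    rw [h9, h10] at h1 h6 <;> try omega
  · exact c2 _ (by simp) h10 h6
  · exact c5 _ (by simp) h10 h6
  · obtain ⟨q, d, a1, a2, a3, a4, a5⟩ := blk_data (nc hN) h h11 (n := 9) h10 h6
    have b1 := k3 d a2 a4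
    have b2 : (2 : ℤ) ∣ ∑ j, q j := Finset.dvd_sum fun j _ => k3 _ (a1 j).1 (a1 j).2.2.1
    omega
  · exact c2 _ (by simp) h10 h6
  · exact c2 _ (by simp) h10 h6
  · exact c5 _ (by simp) h10 h6
  · exact not_ten hN h h10 (by omega) h6
  · exact c2 _ (by simp) h10 h6
  · exact h11 (hV.1 (by omega))

theorem card_Cx_mem (h : DefOne 11 x) {g : G} (hg : g ≠ 1) (ho : ¬ 11 ∣ orderOf g) :
    Nat.card (Cx g) ∈ dvs 8640 := by
  have h1 := h.not_dvd_card_Cx (loc11 hN h).1 hg ho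
  have h2 := card_subgroup_dvd_card (Cx g)
  rw [hN, show 95040 = 11 * 8640 from rfl] at h2
  exact mem_dvs (by norm_num) (((Nat.Prime.coprime_iff_not_dvd (by norm_num)).2
    h1).symm.dvd_of_dvd_mul_left h2)

omit hN in
/-- The degree patterns without degrees 5 and 10. -/
def sols : List (ℤ × ℤ × ℤ × ℤ × ℤ) := [(-120, -54, -32, 45, 160), (-120, -54, 45, 144, -16),
  (-120, 45, 45, 45, -16), (-54, -32, -32, 45, 72), (-54, -32, -32, 144, -27),
  (-54, 12, 12, 45, -16), (-32, -32, 12, 45, 6), (-32, -32, 45, 45, -27)]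

omit hN in
theorem check_deg : ∀ a ∈ [-120, -54, -32, 12, 45, 144], ∀ b ∈ [-120, -54, -32, 12, 45, 144],
    ∀ c ∈ [-120, -54, -32, 12, 45, 144], ∀ d ∈ [-120, -54, -32, 12, 45, 144],
    a ≤ b → b ≤ c → c ≤ d → ∀ e ∈ [6, -16, -27, -60, 72, 160, -192], 1 + a + b + c + d + e = 0 →
    1 + a * a + b * b + c * c + d * d + 2 * (e * e) ≤ 95040 → (a, b, c, d, e) ∈ sols := by
  decide +kernel

omit hN in
set_option synthInstance.maxSize 2000 in
theorem check_central : ∀ t ∈ sols, ∀ C ∈ [64, 192, 320, 576, 960, 1728, 2880, 8640],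
    ∀ a ∈ vals 4 (95040 / C : ℕ) C t.1, ∀ b ∈ vals 4 (95040 / C : ℕ) C t.2.1,
    ∀ c ∈ vals 4 (95040 / C : ℕ) C t.2.2.1, ∀ d ∈ vals 4 (95040 / C : ℕ) C t.2.2.2.1,
    1 + a * a + b * b + c * c + d * d + 2 * ((-1 - a - b - c - d) * (-1 - a - b - c - d)) + 0 ≤ C →
    quadF 8640 t.1 t.2.1 t.2.2.1 t.2.2.2.1 t.2.2.2.2 a b c d (-1 - a - b - c - d) = 0 →
    -1 - a - b - c - d ∈ vals 4 (95040 / C : ℕ) C t.2.2.2.2 →
    t = (-120, -54, -32, 45, 160) ∨ t = (-120, -54, 45, 144, -16) := by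
  decide +kernel

omit hN in
set_option synthInstance.maxSize 2000 in
theorem check_inv : ∀ C ∈ dvs 8640,
    ∀ a ∈ vals 4 (95040 / C : ℕ) C (-120), ∀ b ∈ vals 4 (95040 / C : ℕ) C (-54),
    ∀ c ∈ vals 4 (95040 / C : ℕ) C 45, ∀ d ∈ vals 4 (95040 / C : ℕ) C 144,
    1 + a * a + b * b + c * c + d * d + 2 * ((-1 - a - b - c - d) * (-1 - a - b - c - d)) + 0 ≤ C →
    quadF 8640 (-120) (-54) 45 144 (-16) a b c d (-1 - a - b - c - d) = 0 →
    0 ≤ n2F 8640 (-120) (-54) 45 144 (-16) a b c d (-1 - a - b - c - d) →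
    -1 - a - b - c - d ∈ vals 4 (95040 / C : ℕ) C (-16) →
    ((C = 120 ∨ C = 240) ∧ a = 0 ∧ b = -6 ∧ c = 5 ∧ d = 4) ∨
      (C = 192 ∧ a = 8 ∧ b = -6 ∧ c = -3 ∧ d = 0) := by
  decide +kernel

omit hN in
theorem check_three : ∀ C ∈ dvs 8640, 15 ∣ C →
    ∀ a ∈ vals 3 (95040 / C : ℕ) C (-120), 5 ∣ a → ∀ b ∈ vals 3 (95040 / C : ℕ) C (-54),
    ∀ c ∈ vals 3 (95040 / C : ℕ) C 45, 5 ∣ c → ∀ d ∈ vals 3 (95040 / C : ℕ) C 144, 5 ∣ d + 1 →
    1 + a * a + b * b + c * c + d * d + 2 * ((-1 - a - b - c - d) * (-1 - a - b - c - d)) + 88 ≤ C →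
    0 ≤ quadF 8640 (-120) (-54) 45 144 (-16) a b c d (-1 - a - b - c - d) →
    0 ≤ n2F 8640 (-120) (-54) 45 144 (-16) a b c d (-1 - a - b - c - d) →
    -1 - a - b - c - d ∉ vals 3 (95040 / C : ℕ) C (-16) := by
  decide +kernel

theorem degs (h : DefOne 11 x) (T : T11 x) (h5 : ∀ χ : IrrCharacter G, deg χ ≠ 5 ∧ deg χ ≠ 10) :
    (T.q 0, T.q 1, T.q 2, T.q 3, T.q0) = (-120, -54, -32, 45, 160) ∨
      (T.q 0, T.q 1, T.q 2, T.q 3, T.q0) = (-120, -54, 45, 144, -16) := by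
  obtain ⟨h1, h2, h3, h4, h6, h7⟩ := T.degs (nc hN) (loc11 hN h).2.2.1
  have k1 : ∀ q ∈ sdv 8640, 11 ∣ q - 1 → q ≠ 1 → q * q ≤ 95040 → q ≠ -10 →
      q ∈ [-120, -54, -32, 12, 45, 144] := by decide +kernel
  have k2 : ∀ q ∈ sdv 8640, 11 ∣ q + 5 → 2 * (q * q) ≤ 95040 → q ≠ -5 →
      q ∈ [6, -16, -27, -60, 72, 160, -192] := by decide +kernel
  rw [hN] at h1 h7
  have h8 := fun j => k1 _ (h1 j).1 (h1 j).2.1 (h1 j).2.2.1 (h1 j).2.2.2 fun e =>
    (h5 _).2 (deg_of_q (T.s_eq j) e).1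
  have h9 := check_deg _ (h8 0) _ (h8 1) _ (h8 2) _ (h8 3) h3 h4 h6 _
    (k2 _ h2 T.mod0 (by
      have := fun j => mul_self_nonneg (T.q j)
      rw [Nat.cast_ofNat] at h7
      linarith [this 0, this 1, this 2, this 3]) fun e =>
      (h5 _).1 (deg_of_q T.s0_eq e).1) T.sum_deg h7
  obtain ⟨z, hz, hz2⟩ := exists_central_of_prime (G := G) 2 (by rw [hN]; decide)
  have hz1 : z ≠ 1 := by rintro rfl; simp at hz
  have hz3 : z ^ 2 = 1 := hz ▸ pow_orderOf_eq_one z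
  have ho : ¬ 11 ∣ orderOf z := by rw [hz]; decide
  choose a ha ha' using fun j => inv_val (perf hN) (T.c j) hz3
  obtain ⟨b, hb, hb'⟩ := inv_val (perf hN) T.E hz3
  have l1 := T.lin' ho ha hb
  have l2 := fun j => signed_val (nc hN) (T.c_ne_one j) (T.s_eq j) hz1 (ha j) (ha' j)
    (card_Cx_le hN hz1)
  have l3 := signed_val (nc hN) T.E_ne_one T.s0_eq hz1 hb hb' (card_Cx_le hN hz1)
  have l4 := T.sq_le ho ha hb (l := []) (n := 0) (by simpa using T.nodup) (by simp)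
  have l5 := T.quadF_eq_zero ho ha hb hz3
  have k3 : ∀ C ∈ dvs 8640, ¬ 2 ∣ 95040 / C → C ∈ [64, 192, 320, 576, 960, 1728, 2880, 8640] := by
    decide +kernel
  rw [index_eq hN] at l2 l3 hz2
  rw [(loc11 hN h).2.2.1] at l5
  rw [show T.s0 * b = -1 - T.s 0 * a 0 - T.s 1 * a 1 - T.s 2 * a 2 - T.s 3 * a 3 by omega]
    at l3 l4 l5
  exact check_central _ h9 _ (k3 _ (card_Cx_mem hN h hz1 ho) hz2) _ (l2 0) _ (l2 1) _ (l2 2) _
    (l2 3) l4 l5 l3

end M12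

/-- The degrees in the principal 11-block of the Mathieu group of degree 12. -/
structure IsK (T : T11 x) : Prop where
  d0 : deg (T.c 0) = 120
  d1 : deg (T.c 1) = 54
  d2 : deg (T.c 2) = 45
  d3 : deg (T.c 3) = 144
  dE : deg T.E = 16
  s0 : T.s 0 = -1
  s1 : T.s 1 = -1
  s2 : T.s 2 = 1
  s3 : T.s 3 = 1
  sE : T.s0 = -1

theorem isK_of {T : T11 x}
    (h : (T.q 0, T.q 1, T.q 2, T.q 3, T.q0) = (-120, -54, 45, 144, -16)) : IsK T := by
  simp only [Prod.mk.injEq] at h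
  obtain ⟨h0, h1, h2, h3, h4⟩ := h
  exact ⟨(deg_of_q (T.s_eq 0) h0).1, (deg_of_q (T.s_eq 1) h1).1, (deg_of_q (T.s_eq 2) h2).1,
    (deg_of_q (T.s_eq 3) h3).1, (deg_of_q T.s0_eq h4).1,
    (deg_of_q (T.s_eq 0) h0).2.2 (by decide), (deg_of_q (T.s_eq 1) h1).2.2 (by decide),
    (deg_of_q (T.s_eq 2) h2).2.1 (by decide), (deg_of_q (T.s_eq 3) h3).2.1 (by decide),
    (deg_of_q T.s0_eq h4).2.2 (by decide)⟩

namespace M12
variable (hN : Nat.card G = 95040)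
include hN

/-- The values at an element with integral values. -/
theorem test (h : DefOne 11 x) {T : T11 x} (K : IsK T) {g : G} (hg : g ≠ 1) (ho : ¬ 11 ∣ orderOf g)
    {m : ℤ} {a : Fin 4 → ℤ} {b : ℤ} (ha : ∀ j, (T.c j).1 g = a j) (hb : T.E.1 g = b)
    (ha' : ∀ j, m ∣ a j - deg (T.c j)) (hb' : m ∣ b - deg T.E) {C : ℕ} (hC : Nat.card (Cx g) = C) :
    -a 0 ∈ vals m (95040 / C : ℕ) C (-120) ∧ -a 1 ∈ vals m (95040 / C : ℕ) C (-54) ∧
      a 2 ∈ vals m (95040 / C : ℕ) C 45 ∧ a 3 ∈ vals m (95040 / C : ℕ) C 144 ∧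
      -b ∈ vals m (95040 / C : ℕ) C (-16) ∧ -b = -1 - -a 0 - -a 1 - a 2 - a 3 ∧
      0 ≤ quadF 8640 (-120) (-54) 45 144 (-16) (-a 0) (-a 1) (a 2) (a 3) (-b) ∧
      (g ^ 2 = 1 → quadF 8640 (-120) (-54) 45 144 (-16) (-a 0) (-a 1) (a 2) (a 3) (-b) = 0) ∧
      0 ≤ n2F 8640 (-120) (-54) 45 144 (-16) (-a 0) (-a 1) (a 2) (a 3) (-b) ∧
      ∀ (l : List (IrrCharacter G)) (n : ℤ), (T.L ++ l).Nodup →
        (l.map fun χ => Complex.normSq (χ.1 g)).sum = n →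
        1 + -a 0 * -a 0 + -a 1 * -a 1 + a 2 * a 2 + a 3 * a 3 + 2 * (-b * -b) + n ≤ C := by
  have l1 := T.lin' ho ha hb
  have l2 := fun j => signed_val (nc hN) (T.c_ne_one j) (T.s_eq j) hg (ha j) (ha' j)
    (card_Cx_le hN hg)
  have l3 := signed_val (nc hN) T.E_ne_one T.s0_eq hg hb hb' (card_Cx_le hN hg)
  have l4 := fun l n hl hn => T.sq_le ho ha hb (l := l) (n := n) hl hn
  have l5 := T.quadF_eq_zero ho ha hb
  have l6 := T.quadF_nonneg ho ha hb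
  have l7 := T.n2F_nonneg ho ha hb (loc11 hN h).2.2.2.1
  have l8 := l2 0
  have l9 := l2 1
  have l10 := l2 2
  have l11 := l2 3
  rw [index_eq hN, hC] at l3 l8 l9 l10 l11
  rw [(loc11 hN h).2.2.1] at l5 l6 l7
  simp only [T11.q, T11.q0, K.d0, K.d1, K.d2, K.d3, K.dE, K.s0, K.s1, K.s2, K.s3, K.sE, neg_mul,
    one_mul, Nat.cast_ofNat, hC] at l1 l3 l4 l5 l6 l7 l8 l9 l10 l11
  exact ⟨l8, l9, l10, l11, l3, by omega, l6, l5, l7, fun l n hl hn => by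
    have := l4 l n hl hn
    simpa only [neg_mul] using this⟩

theorem inv_type (h : DefOne 11 x) {T : T11 x} (K : IsK T) {t : G} (ht : t ^ 2 = 1) (h1 : t ≠ 1) :
    ((Nat.card (Cx t) = 120 ∨ Nat.card (Cx t) = 240) ∧ (T.c 0).1 t = (0 : ℤ) ∧
      (T.c 1).1 t = (6 : ℤ) ∧ (T.c 2).1 t = (5 : ℤ) ∧ (T.c 3).1 t = (4 : ℤ) ∧ T.E.1 t = (4 : ℤ)) ∨
    (Nat.card (Cx t) = 192 ∧ (T.c 1).1 t = (6 : ℤ) ∧ T.E.1 t = (0 : ℤ)) := by
  have ho : ¬ 11 ∣ orderOf t := by rw [orderOf_eq_prime ht h1]; decide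
  choose a ha ha' using fun j => inv_val (perf hN) (T.c j) ht
  obtain ⟨b, hb, hb'⟩ := inv_val (perf hN) T.E ht
  obtain ⟨l1, l2, l3, l4, l5, l6, -, l7, l8, l9⟩ := test hN h K h1 ho ha hb ha' hb' rfl
  have l10 := l9 [] 0 (by simpa using T.nodup) (by simp)
  rw [l6] at l5 l7 l8 l10
  rw [ha, ha, ha, ha, hb]
  rcases check_inv _ (card_Cx_mem hN h h1 ho) _ l1 _ l2 _ l3 _ l4 l10 (l7 ht) l8 l5 with
    ⟨e1, e2, e3, e4, e5⟩ | ⟨e1, e2, e3, e4, e5⟩
  · exact Or.inl ⟨e1, by congr 1; omega, by congr 1; omega, by rw [e4], by rw [e5],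
      by congr 1; omega⟩
  · exact Or.inr ⟨e1, by congr 1; omega, by congr 1; omega⟩

end M12

end H2
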