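import Cfsg.Agent.H2.M12a

/-! Simple groups of order 95040: the principal 5-block. -/

set_option autoImplicit false
set_option linter.unusedSectionVars false

namespace H2
open Cfsg H8 Subgroup
open scoped ComplexConjugate

variable {G : Type*} [Group G] [Fintype G] [IsSimpleGroup G] {x y : G}

theorem gal_val {p : ℕ} [Fact p.Prime] (h : DefOne p y) {χ : IrrCharacter G} {s : ℂ}
    (hχ : ∀ i : ZMod p, i ≠ 0 → ∀ v ∈ h.V, χ.1 (xp y i * v) = s) {k : ℕ}
    (hk : k.Coprime (Nat.card G)) (hk' : (k : ZMod p) ≠ 0) :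
    ∀ v ∈ h.V, (galC χ hk).1 (y * v) = s := fun v hv => by
  have : Commute y v := (mem_Cx.1 (h.V_le hv)).symm
  change χ.1 ((y * v) ^ k) = s
  rw [this.mul_pow, ← xp_natCast h.pow_p, hχ _ hk' _ (pow_mem hv k)]

theorem no_small_V (hN : Nat.card G = 95040) {V : Subgroup G} (hV : Nat.card V ∣ 27)
    {χ : IrrCharacter G} (hd : deg χ = 11) {β : V → ℂ} (hβ : IsCharacter V β)
    (hr : ∀ v : V, χ.1 v = 5 * β v + 1)
    (hg : ∀ (k : ℕ) (hk : k.Coprime (Nat.card G)), (k : ZMod 5) ≠ 0 → galC χ hk = χ) :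
    Nat.card V ≤ 3 := by
  have h1 : ∀ v ∈ V, v ^ 27 = 1 := fun v hv =>
    orderOf_dvd_iff_pow_eq_one.1 ((orderOf_dvd_natCard V hv).trans hV)
  have h2 : ∀ (k : ℕ) (hk : k.Coprime (Nat.card G)), (k : ZMod 5) ≠ 0 → ∀ g, χ.1 (g ^ k) = χ.1 g :=
    fun k hk hk' g => congrFun (congrArg Subtype.val (hg k hk hk')) g
  refine card_le_three (ne_of_deg (by rw [hd, deg_one1]; decide)) hd hβ hr (fun v hv => ?_)
    fun v hv => ?_
  · rw [← h2 29 (by rw [hN]; decide) (by decide) v, show 29 = 27 + 2 from rfl, pow_add, h1 v hv,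
      one_mul]
  · rw [← h2 53 (by rw [hN]; decide) (by decide) v]
    exact congrArg χ.1 (inv_eq_of_mul_eq_one_left (by
      rw [← pow_succ, show 53 + 1 = 27 * 2 from rfl, pow_mul, h1 v hv, one_pow]))

theorem Full.cc_eq {p : ℕ} [Fact p.Prime] {h : DefOne p y} {n : ℕ} (F : Full h n) (j : Fin n)
    (hd : ∀ k, deg (F.c k) = deg (F.c j) → k = j) : cc (F.c j) = F.c j := by
  obtain ⟨k, hk⟩ := F.mem_of_const (χ := cc (F.c j)) (a := F.s j)
    (fun e => F.ne_one j (Subtype.ext (funext fun g => by rw [← inv_inv g, ← cc_apply, e]; rfl)))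
    (by rcases F.s_eq j with e | e <;> simp [e]) fun v hv => by
      rw [cc_apply, val_inv (F.val_mul j hv)]
  rw [← hk, hd k (by rw [hk, deg_cc])]

theorem IsK.cases {T : T11 x} (K : IsK T) {χ : IrrCharacter G} (h : χ ∈ T.L) :
    (χ = one1 G ∧ deg χ = 1) ∨ (χ = T.c 0 ∧ deg χ = 120) ∨ (χ = T.c 1 ∧ deg χ = 54) ∨
      (χ = T.c 2 ∧ deg χ = 45) ∨ (χ = T.c 3 ∧ deg χ = 144) ∨ (χ = T.E ∧ deg χ = 16) ∨
      (χ = T.E' ∧ deg χ = 16) := by
  simp only [List.mem_cons, List.not_mem_nil, or_false] at h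
  rcases h with rfl | rfl | rfl | rfl | rfl | rfl | rfl <;>
    simp [deg_one1, K.d0, K.d1, K.d2, K.d3, K.dE, T.deg_E']

theorem IsK.cc_eq {T : T11 x} (K : IsK T) (j : Fin 4) : cc (T.c j) = T.c j := by
  obtain ⟨k, hk⟩ := T.cc_c j
  have h1 : deg (T.c k) = deg (T.c j) := by rw [hk, deg_cc]
  have := K.d0; have := K.d1; have := K.d2; have := K.d3
  rw [← hk]
  fin_cases j <;> fin_cases k <;> simp only [Fin.zero_eta, Fin.mk_one, Fin.reduceFinMk] at h1 ⊢ <;>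
    omega

namespace M12
variable (hN : Nat.card G = 95040)
include hN

theorem loc5_opts (h : DefOne 11 x) (h5 : DefOne 5 y) : (Cx y).index ∣ 19008 ∧
    ((Nat.card h5.H = 2 ∧ (2 ∣ Nat.card h5.V ∨ Nat.card h5.V = 9)) ∨ (Nat.card h5.H = 4 ∧
      ((Nat.card h5.V = 27 ∧ (Cx y).index = 704) ∨ (2 ∣ Nat.card h5.V ∧ ¬ 144 ∣ (Cx y).index) ∨
        Nat.card h5.V = 12 ∨ Nat.card h5.V = 2))) := by
  obtain ⟨h1, h2, -, h4, h3⟩ := loc_num (nc hN) h5 (m := 19008) hN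
  have h6 := h5.index_Cx
  have h7 := h5.card_Cx
  have h9 := h.not_dvd_card_Cx (loc11 hN h).1 h5.ne_one (by rw [h5.ord]; decide)
  have he : ∀ e ∈ dvs 4, 1 < e → e = 2 ∨ e = 4 := by decide
  have hn : ∀ n ∈ dvs 19008, n % 5 = 1 → 11 ∣ 19008 / n ∨ n = 11 ∨ n = 66 ∨ n = 176 ∨ n = 396 ∨
      n = 1056 ∨ n = 2376 ∨ n = 6336 := by decide +kernel
  have h10 := hn _ (mem_dvs (by norm_num) (h1 ▸ (dvd_mul_right _ _).mul_right _)) h2
  have h11 : 19008 / (Nx y).index = Nat.card h5.H * Nat.card h5.V := by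
    rw [← h1, mul_assoc, Nat.mul_div_cancel_left _ (Nat.pos_of_ne_zero index_ne_zero_of_finite)]
  refine ⟨h1 ▸ h6 ▸ dvd_mul_right _ _, ?_⟩
  rw [h11] at h10
  rcases he _ (mem_dvs (by norm_num) h4) h3 with e | e <;> rw [e] at h1 h6 h10 <;>
    rcases h10 with h10 | h10 | h10 | h10 | h10 | h10 | h10 | h10 <;> try rw [h10] at h1 h6
  all_goals omega

theorem V5_ne (h : DefOne 11 x) (h5 : DefOne 5 y) : h5.V ≠ ⊥ := fun e => by
  have := (loc5_opts hN h h5).2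
  rw [e, card_bot] at this
  omega

theorem two (h : DefOne 11 x) (h5 : DefOne 5 y) (he : Nat.card h5.H = 2) :
    (∃ χ : IrrCharacter G, deg χ = 12) ∧ Nat.card h5.V ≠ 9 := by
  classical
  obtain ⟨b⟩ := h5.nonempty_block
  obtain ⟨c, h1, h2, h3⟩ := blk_enum b (n := 1) he
  obtain ⟨h4, h6⟩ := blk_large (nc hN) b (V5_ne hN h h5)
  have hL := (loc5_opts hN h h5).1
  have k : ∀ q ∈ sdv 19008, 5 ∣ q - 1 → 10 < q.natAbs → -1 - q ∣ 19008 → q = 11 := by
    decide +kernel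
  rw [Fin.sum_univ_one] at h3
  obtain ⟨m, hm⟩ := b.deg_modEq (h1 0).2
  have h7 := k _ (mem_sdv (by norm_num) (sgn_dvd (b.sgn_eq _ (h1 0).2)
    ((b.deg_dvd (h1 0).2).trans hL))) (sgn_mod (p := 5) (b.sgn_eq _ (h1 0).2) hm) (by
      have := h4 _ (h1 0).2 (h1 0).1
      rcases b.sgn_eq _ (h1 0).2 with e | e <;> simpa [e]) (by
      rw [show -1 - b.sgn (c 0) * deg (c 0) = b.sgn0 * deg (b.ex 1) by omega]
      exact sgn_dvd b.sgn0_eq ((b.deg_ex_dvd 1).trans hL))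
  obtain ⟨h8, h9, -⟩ := deg_of_q (b.sgn_eq _ (h1 0).2) h7
  have h10 := (deg_of_q b.sgn0_eq (show b.sgn0 * deg (b.ex 1) = -12 by omega)).1
  refine ⟨⟨_, h10⟩, fun hv => ?_⟩
  obtain ⟨β, e1, e2⟩ := b.exists_restrict_B (h1 0).2
  have := no_small_V hN (by rw [hv]; decide) h8 e1 (by simpa [h9 (by decide)] using e2)
    fun k hk hk' => by
      have e3 := gal_val h5 (b.apply_B _ (h1 0).2) hk hk'
      have e4 := deg_galC (c 0) hk
      by_cases e5 : galC (c 0) hk ∈ b.B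
      · obtain ⟨j, hj⟩ := h2 _ e5 (ne_of_deg (by rw [e4, h8, deg_one1]; decide))
        rw [← hj, Subsingleton.elim j 0]
      · have e6 := b.sum_other e5 (fun l => ne_of_deg (by rw [e4, h8, b.deg_ex l 1, h10]; decide))
          (one_ne_zero (α := ZMod 5))
        rw [xp_one, Finset.sum_congr rfl fun (v : h5.V) _ => e3 v v.2] at e6
        simp [h9 (by decide)] at e6
  omega

theorem not_27 (h : DefOne 11 x) (h5 : DefOne 5 y) (he : Nat.card h5.H = 4)
    (hv : Nat.card h5.V = 27) (hL : (Cx y).index = 704) : False := by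
  obtain ⟨F⟩ := exists_full h5 (n := 4) rfl he
  have k1 : ∀ q ∈ sdv 704, 5 ∣ q - 1 → 10 < q.natAbs → q ∈ [11, 16, -44, -64, 176, -704] := by
    decide +kernel
  have k2 : ∀ a ∈ [11, 16, -44, -64, 176, -704], ∀ b ∈ [11, 16, -44, -64, 176, -704],
      ∀ c ∈ [11, 16, -44, -64, 176, -704], ∀ d ∈ [11, 16, -44, -64, 176, -704], a ≤ b → b ≤ c → c ≤ d →
      1 + (a + b + c + d : ℤ) = 0 → a = -44 ∧ b = 11 ∧ c = 16 ∧ d = 16 := by decide +kernel
  have g1 := fun j => k1 _ (F.q_mem (by norm_num) (hL ▸ dvd_rfl) j) (F.mod j) (by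
    have := F.large (perf hN) (V5_ne hN h h5) j
    rcases F.s_eq j with e | e <;> simpa [e])
  obtain ⟨g2, g3, g4, g5⟩ := k2 _ (g1 0) _ (g1 1) _ (g1 2) _ (g1 3) (F.mono (by decide))
    (F.mono (by decide)) (F.mono (by decide)) (by simpa [Fin.sum_univ_four] using F.sum_deg)
  have a0 := (deg_of_q (F.s_eq 0) g2).1
  obtain ⟨a1, b1, -⟩ := deg_of_q (F.s_eq 1) g3
  have a2 := (deg_of_q (F.s_eq 2) g4).1
  have a3 := (deg_of_q (F.s_eq 3) g5).1
  obtain ⟨β, e1, e2⟩ := F.res 1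
  have := no_small_V hN (by rw [hv]) a1 e1 (by simpa [b1 (by decide)] using e2)
    fun k hk hk' => by
      have e4 := deg_galC (F.c 1) hk
      obtain ⟨j, hj⟩ := F.mem_of_const (ne_of_deg (by rw [e4, a1, deg_one1]; decide))
        (by simp [b1 (by decide)]) (gal_val h5 (F.val 1) hk hk')
      rw [← hj] at e4 ⊢
      fin_cases j <;> simp only [Fin.zero_eta, Fin.mk_one, Fin.reduceFinMk] at e4 ⊢ <;> omega
  omega

theorem exists_u (h : DefOne 11 x) (h5 : DefOne 5 y) : ∃ u ∈ h5.V, u ^ 2 = 1 ∧ u ≠ 1 := by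
  obtain ⟨u, hu, hu2⟩ := exists_mem_V h5 2 (by
    rcases (loc5_opts hN h h5).2 with ⟨e, e1 | e1⟩ | ⟨e, e1 | e1 | e1 | e1⟩
    · exact e1
    · exact absurd e1 (two hN h h5 e).2
    · exact (not_27 hN h h5 e e1.1 e1.2).elim
    · exact e1.1
    · rw [e1]; decide
    · rw [e1])
  exact ⟨u, hu, hu2 ▸ pow_orderOf_eq_one u, by rintro rfl; simp at hu2⟩

theorem not_deg (h : DefOne 11 x) (h5 : DefOne 5 y) (χ : IrrCharacter G) :
    deg χ ≠ 5 ∧ deg χ ≠ 10 := by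
  obtain ⟨u, hu, hu2, hu1⟩ := exists_u hN h h5
  obtain ⟨a, e1, e2⟩ := inv_val (perf hN) χ hu2
  by_contra h1
  have e3 := dvd_val_of_defect h5 χ (by omega) hu e1
  have e4 := abs_lt.1 (irr_int_abs_lt (nc hN) (ne_of_deg (by rw [deg_one1]; omega)) hu1 e1)
  omega

theorem isK (h : DefOne 11 x) (h5 : DefOne 5 y) (T : T11 x) : IsK T ∧ Nat.card h5.H = 4 := by
  have h1 := degs hN h T (not_deg hN h h5)
  have d0 := deg_of_q (d := deg (T.c 0)) (T.s_eq 0) rfl
  have d1 := deg_of_q (d := deg (T.c 1)) (T.s_eq 1) rfl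
  have d2 := deg_of_q (d := deg (T.c 2)) (T.s_eq 2) rfl
  have d3 := deg_of_q (d := deg (T.c 3)) (T.s_eq 3) rfl
  have d4 := deg_of_q (d := deg T.E) T.s0_eq rfl
  have d5 := T.deg_E'
  have d6 := deg_one1 (G := G)
  have he : Nat.card h5.H = 4 := by
    rcases (loc5_opts hN h h5).2 with ⟨e, -⟩ | ⟨e, -⟩
    · obtain ⟨χ, hχ⟩ := (two hN h h5 e).1
      have h2 : χ ∈ T.L := by
        by_contra h2
        have := T.dvd_deg h.pow_p h2
        omega
      simp only [List.mem_cons, List.not_mem_nil, or_false] at h2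
      simp only [Prod.mk.injEq, T11.q, T11.q0] at h1
      rcases h2 with e | e | e | e | e | e | e <;> rw [e] at hχ <;> omega
    · exact e
  refine ⟨isK_of (h1.resolve_left fun h2 => ?_), he⟩
  obtain ⟨F⟩ := exists_full h5 (n := 4) rfl he
  simp only [Prod.mk.injEq, T11.q, T11.q0] at h2
  have h3 : ∀ j, ∃ n : ℕ, F.s j * (F.c j).1 x = n := fun j => by
    by_cases e : F.c j ∈ T.L
    · have e1 := F.mod j
      have e2 := F.ne_one j
      simp only [List.mem_cons, List.not_mem_nil, or_false] at e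
      rcases e with e | e | e | e | e | e | e <;> rw [e] at e1 e2 ⊢ <;>
        rcases F.s_eq j with e3 | e3 <;> rw [e3] at e1 ⊢ <;>
        first | exact absurd rfl e2 | omega | skip
      exact ⟨1, by rw [T.val_x, d1.2.2 (by omega)]; simp⟩
    · exact ⟨0, by simp [T.other_x e]⟩
  choose n hn using h3
  have h4 := F.lin x (by rw [h.ord]; decide)
  simp only [hn] at h4
  have h6 : 1 + ∑ j, n j = 0 := by exact_mod_cast h4
  omega

end M12

/-- The degrees in the principal 5-block, with the values at an involution centralising `y`. -/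
structure IsF {h : DefOne 5 y} (T : T11 x) (F : Full h 4) (u : G) : Prop where
  c0 : F.c 0 = T.c 3
  d1 : deg (F.c 1) = 99
  d2 : deg (F.c 2) = 66
  d3 : deg (F.c 3) = 176
  s0 : F.s 0 = -1
  s1 : F.s 1 = -1
  s2 : F.s 2 = 1
  s3 : F.s 3 = 1
  C : Nat.card (Cx u) = 240
  t0 : (T.c 0).1 u = (0 : ℤ)
  t1 : (T.c 1).1 u = (6 : ℤ)
  t2 : (T.c 2).1 u = (5 : ℤ)
  t3 : (T.c 3).1 u = (4 : ℤ)
  tE : T.E.1 u = (4 : ℤ)
  u1 : (F.c 1).1 u = (-1 : ℤ)
  u2 : (F.c 2).1 u = (6 : ℤ)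
  u3 : (F.c 3).1 u = (-4 : ℤ)

theorem nodup_TF {h : DefOne 5 y} {T : T11 x} (K : IsK T) {F : Full h 4}
    (h1 : 11 ∣ deg (F.c 1)) (h2 : 11 ∣ deg (F.c 2)) (h3 : 11 ∣ deg (F.c 3)) :
    (T.L ++ [F.c 1, F.c 2, F.c 3]).Nodup := by
  refine List.nodup_append.2 ⟨T.nodup, by simp [F.inj.eq_iff], fun a ha b hb e => ?_⟩
  have := K.cases ha
  simp only [List.mem_cons, List.not_mem_nil, or_false] at hb
  rcases hb with rfl | rfl | rfl <;> rw [e] at this <;> omega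

namespace M12
variable (hN : Nat.card G = 95040)
include hN

omit hN in
set_option synthInstance.maxSize 2000 in
theorem check_F : ∀ t ∈ [((-99 : ℤ), (66 : ℤ), (176 : ℤ)), (-44, 11, 176), (11, 66, 66)],
    ∀ C ∈ [120, 240],
    ∀ a ∈ vals 4 (95040 / C : ℕ) C t.1, 5 ∣ a - 1 → ∀ b ∈ vals 4 (95040 / C : ℕ) C t.2.1,
    5 ∣ b - 1 → ∀ c ∈ vals 4 (95040 / C : ℕ) C t.2.2, 5 ∣ c - 1 → a + b + c = 3 →
    110 + (a * a + (b * b + c * c)) ≤ C →
    t = (-99, 66, 176) ∧ C = 240 ∧ a = 1 ∧ b = 6 ∧ c = -4 := by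
  decide +kernel

theorem isF (h : DefOne 11 x) (h5 : DefOne 5 y) {T : T11 x} (K : IsK T) (F : Full h5 4) {u : G}
    (hu : u ∈ h5.V) (hu2 : u ^ 2 = 1) (hu1 : u ≠ 1) : IsF T F u := by
  have ho : orderOf u = 2 := orderOf_eq_prime hu2 hu1
  obtain ⟨C, t0, t1, t2, t3, tE⟩ := (inv_type hN h K hu2 hu1).resolve_right fun e => by
    have := orderOf_dvd_natCard (Cx u) (mem_Cx.2 (mem_Cx.1 (h5.V_le hu)).symm)
    rw [h5.ord, e.1] at this
    revert this; decide
  have hL : ∀ j, F.c j ∈ T.L → F.c j = T.c 3 ∧ F.s j = -1 := fun j e => by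
    have e1 := F.mod j
    have e2 := F.ne_one j
    rcases K.cases e with e | e | e | e | e | e | e <;> rw [e.2] at e1
    · exact absurd e.1 e2
    · rcases F.s_eq j with e3 | e3 <;> rw [e3] at e1 <;> omega
    · have := F.val_mod j hu (e.1 ▸ t1)
      rcases F.s_eq j with e3 | e3 <;> rw [e3] at e1 this <;> omega
    · rcases F.s_eq j with e3 | e3 <;> rw [e3] at e1 <;> omega
    · exact ⟨e.1, (F.s_eq j).resolve_left fun e3 => by rw [e3] at e1; omega⟩
    · have := F.val_mod j hu (e.1 ▸ tE)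
      rcases F.s_eq j with e3 | e3 <;> rw [e3] at e1 this <;> omega
    · have := F.val_mod j hu (e.1 ▸ (T.reg u (by rw [ho]; decide)).trans tE)
      rcases F.s_eq j with e3 | e3 <;> rw [e3] at e1 this <;> omega
  have k1 : ∀ q ∈ sdv 19008, 5 ∣ q - 1 → (q = -144 ∨ 11 ∣ q) → q * q ≤ 95040 →
      q ∈ [-144, 11, 66, 176, -44, -99, -264] := by decide +kernel
  have k2 : ∀ a ∈ [-144, 11, 66, 176, -44, -99, -264], ∀ b ∈ [-144, 11, 66, 176, -44, -99, -264],
      ∀ c ∈ [-144, 11, 66, 176, -44, -99, -264], ∀ d ∈ [-144, 11, 66, 176, -44, -99, -264],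
      a ≤ b → b ≤ c → c ≤ d → 1 + (a + b + c + d : ℤ) = 0 → a = -144 ∧
      (b, c, d) ∈ [((-99 : ℤ), (66 : ℤ), (176 : ℤ)), (-44, 11, 176), (11, 66, 66)] := by
    decide +kernel
  have g1 := fun j => k1 _ (F.q_mem (by norm_num) (loc5_opts hN h h5).1 j) (F.mod j) (by
    by_cases e : F.c j ∈ T.L
    · left; rw [(hL j e).1, (hL j e).2, K.d3]; rfl
    · right
      exact Dvd.dvd.mul_left (by exact_mod_cast T.dvd_deg h.pow_p e) _) (by
    have := sq_q_le (F.s_eq j) (F.c j)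
    rwa [hN] at this)
  obtain ⟨g2, g3⟩ := k2 _ (g1 0) _ (g1 1) _ (g1 2) _ (g1 3) (F.mono (by decide))
    (F.mono (by decide)) (F.mono (by decide)) (by simpa [Fin.sum_univ_four] using F.sum_deg)
  obtain ⟨c0, s0⟩ := hL 0 (by
    by_contra e
    have := T.dvd_deg h.pow_p e
    have := (deg_of_q (F.s_eq 0) g2).1
    omega)
  have d1 := deg_of_q (d := deg (F.c 1)) (F.s_eq 1) rfl
  have d2 := deg_of_q (d := deg (F.c 2)) (F.s_eq 2) rfl
  have d3 := deg_of_q (d := deg (F.c 3)) (F.s_eq 3) rfl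
  choose a ha ha' using fun j => inv_val (perf hN) (F.c j) hu2
  have l1 := F.lin' (by rw [ho]; decide) ha
  have l2 := fun j => signed_val (nc hN) (F.ne_one j) (F.s_eq j) hu1 (ha j) (ha' j)
    (card_Cx_le hN hu1)
  have a0 : a 0 = 4 := by
    have := ha 0
    rw [c0, t3] at this
    exact_mod_cast this.symm
  have l3 := sq_list_le (nodup_TF K (F := F) (by simp at g3; omega) (by simp at g3; omega)
    (by simp at g3; omega)) u
  simp only [List.cons_append, List.nil_append, List.map_cons, List.map_nil, List.sum_cons,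
    List.sum_nil, ha, t0, t1, t2, t3, tE, T.reg u (by rw [ho]; decide), Pi.one_apply, map_one,
    Complex.normSq_intCast] at l3
  have l4 : 110 + (a 1 * a 1 + (a 2 * a 2 + a 3 * a 3)) ≤ (Nat.card (Cx u) : ℤ) := by
    have : (110 + (a 1 * a 1 + (a 2 * a 2 + a 3 * a 3)) : ℝ) ≤ Nat.card (Cx u) := by
      push_cast at l3; linarith
    exact_mod_cast this
  rw [index_eq hN] at l2
  rw [Fin.sum_univ_four, s0, a0] at l1
  obtain ⟨e1, e2, e3, e4, e5⟩ := check_F _ g3 _ (by simpa using C) _ (l2 1)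
    (F.val_mod 1 hu (ha 1)) _ (l2 2) (F.val_mod 2 hu (ha 2)) _ (l2 3) (F.val_mod 3 hu (ha 3))
    (by omega) (by simpa only [mul_mul_mul_comm (F.s _) (a _), sgn_sq (F.s_eq _), one_mul] using l4)
  simp only [Prod.mk.injEq] at e1
  have s1 := d1.2.2 (by omega)
  have s2 := d2.2.1 (by omega)
  have s3 := d3.2.1 (by omega)
  rw [s1] at e3
  rw [s2] at e4
  rw [s3] at e5
  exact ⟨c0, by omega, by omega, by omega, s0, s1, s2, s3, e2, t0, t1, t2, t3, tE,
    by rw [ha]; congr 1; omega, by rw [ha]; congr 1; omega, by rw [ha]; congr 1; omega⟩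

theorem card_V5 (h : DefOne 11 x) (h5 : DefOne 5 y) {T : T11 x} (K : IsK T) (F : Full h5 4) {u : G}
    (I : IsF T F u) (he : Nat.card h5.H = 4) : Nat.card h5.V = 2 := by
  have h1 := F.dvd 0
  rw [I.c0, K.d3] at h1
  refine ((loc5_opts hN h h5).2.resolve_left (by omega)).2.elim (fun e => by omega)
    fun e => (e.resolve_left fun e => e.2 h1).resolve_left fun hv => ?_
  obtain ⟨w, hw, ho⟩ := exists_mem_V h5 3 (by rw [hv]; decide)
  have hw3 : w ^ 3 = 1 := ho ▸ pow_orderOf_eq_one w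
  have hw1 : w ≠ 1 := by rintro rfl; simp at ho
  have ho11 : ¬ 11 ∣ orderOf w := by rw [ho]; decide
  choose a ha using fun j => exists_int_three hw3 (irr_isCharacter (T.c j).2)
    (real_of_cc (K.cc_eq j) w)
  obtain ⟨b, hb⟩ := exists_int_three hw3 (irr_isCharacter T.E.2) (T.realE ho11)
  have hd : ∀ j k, deg (F.c k) = deg (F.c j) → k = j := fun j k e => by
    have := I.d1; have := I.d2; have := I.d3
    have := K.d3; rw [← I.c0] at this
    fin_cases j <;> fin_cases k <;> simp only [Fin.zero_eta, Fin.mk_one, Fin.reduceFinMk] at e ⊢ <;>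
      omega
  choose c hc using fun j => exists_int_three hw3 (irr_isCharacter (F.c j).2)
    (real_of_cc (F.cc_eq j (hd j)) w)
  have m3 : ∀ (χ : IrrCharacter G) {a : ℤ}, χ.1 w = a → (3 : ℤ) ∣ a - deg χ := fun χ a ha =>
    dvd_val_sub_deg 3 χ (k := 1) hw3 ha
  obtain ⟨l1, l2, l3, l4, l5, l6, l7, -, l8, l9⟩ := test hN h K hw1 ho11 ha hb
    (fun j => m3 _ (ha j)) (m3 _ hb) rfl
  have l10 := l9 [F.c 1, F.c 2, F.c 3] (c 1 * c 1 + (c 2 * c 2 + c 3 * c 3))
    (nodup_TF K (by rw [I.d1]; decide) (by rw [I.d2]; decide) (by rw [I.d3]; decide))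
    (by simp [hc])
  have b1 : 36 ≤ c 1 * c 1 := by
    have e1 := m3 _ (hc 1)
    have e2 := F.val_mod 1 hw (hc 1)
    rw [I.d1] at e1; rw [I.s1] at e2
    obtain e | e : c 1 ≤ -6 ∨ 9 ≤ c 1 := by omega
    all_goals nlinarith
  have b2 : 36 ≤ c 2 * c 2 := by
    have e1 := m3 _ (hc 2)
    have e2 := F.val_mod 2 hw (hc 2)
    rw [I.d2] at e1; rw [I.s2] at e2
    obtain e | e : c 2 ≤ -9 ∨ 6 ≤ c 2 := by omega
    all_goals nlinarith
  have b3 : 16 ≤ c 3 * c 3 := by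
    have e1 := m3 _ (hc 3)
    have e2 := F.val_mod 3 hw (hc 3)
    rw [I.d3] at e1; rw [I.s3] at e2
    obtain e | e : c 3 ≤ -4 ∨ 11 ≤ c 3 := by omega
    all_goals nlinarith
  have f0 := dvd_val_of_defect h5 (T.c 0) (by rw [K.d0]; decide) hw (ha 0)
  have f2 := dvd_val_of_defect h5 (T.c 2) (by rw [K.d2]; decide) hw (ha 2)
  have f3 := F.val_mod 0 hw (I.c0 ▸ ha 3)
  have f4 := orderOf_dvd_natCard (Cx w) (mem_Cx.2 (mem_Cx.1 (h5.V_le hw)).symm)
  have f5 := orderOf_dvd_natCard (Cx w) self_mem_Cx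
  rw [h5.ord] at f4
  rw [ho] at f5
  rw [I.s0] at f3
  rw [l6] at l5 l7 l8 l10
  exact check_three _ (card_Cx_mem hN h hw1 ho11) (by omega) _ l1 (by omega) _ l2 _ l3 f2 _ l4
    (by omega) (by omega) l7 l8 l5

end M12

end H2
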