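import Cfsg.Agent.H2.M12b
import Cfsg.Agent.H9.Tools2

/-! Simple groups of order 95040: the characters of degree 11. -/

set_option autoImplicit false
set_option linter.unusedSectionVars false

namespace H2
open Cfsg H8 Subgroup
open scoped ComplexConjugate

variable {G : Type*} [Group G] [Fintype G] [IsSimpleGroup G] {x y : G}

theorem eq_or_of_card_two {V : Subgroup G} (hV : Nat.card V = 2) {u : G} (hu : u ∈ V) (h1 : u ≠ 1)
    {v : G} (hv : v ∈ V) : v = 1 ∨ v = u := by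
  obtain ⟨a, -, ha⟩ := (Nat.card_eq_two_iff' (1 : V)).1 hV
  by_cases h : v = 1
  · exact Or.inl h
  · exact Or.inr (congrArg Subtype.val ((ha ⟨v, hv⟩ fun e => h (congrArg Subtype.val e)).trans
      (ha ⟨u, hu⟩ fun e => h1 (congrArg Subtype.val e)).symm))

/-- The second 5-block of maximal defect. -/
structure IsAB {h : DefOne 5 y} (T : T11 x) (F : Full h 4) (α β : IrrCharacter G) (a b : ℤ) :
    Prop where
  nodup : ((T.L ++ [F.c 1, F.c 2, F.c 3]) ++ [α, β]).Nodup
  va : ∀ i : ZMod 5, i ≠ 0 → α.1 (xp y i) = a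
  vb : ∀ i : ZMod 5, i ≠ 0 → β.1 (xp y i) = b
  ma : 5 ∣ a - deg α
  mb : 5 ∣ b - deg β
  sa : a = 1 ∨ a = -1
  sb : b = 1 ∨ b = -1
  y0 : (T.c 0).1 y = (0 : ℤ)
  y1 : (T.c 1).1 y = (-1 : ℤ)
  y2 : (T.c 2).1 y = (0 : ℤ)
  yE : T.E.1 y = (1 : ℤ)
  other : ∀ χ, χ ∉ (T.L ++ [F.c 1, F.c 2, F.c 3]) ++ [α, β] → χ.1 y = 0

section
variable {h5 : DefOne 5 y} {T : T11 x} {F : Full h5 4} {u : G}

theorem exists_AB (K : IsK T) (I : IsF T F u) (he : Nat.card h5.H = 4) (hv : Nat.card h5.V = 2) :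
    ∃ α β a b, IsAB T F α β a b := by
  classical
  choose a ha hy hm using exists_int_val h5 he
  have hn := nodup_TF K (F := F) (by rw [I.d1]; decide) (by rw [I.d2]; decide)
    (by rw [I.d3]; decide)
  have h1 := sum_normSq y
  have ho : ¬ 11 ∣ orderOf y := by rw [h5.ord]; decide
  have e1 : ∀ j, a (F.c j) = F.s j := fun j => by
    have := hy (F.c j)
    rw [F.val_self] at this
    exact_mod_cast this.symm
  have e2 : a T.E' = a T.E := by
    have := T.reg y ho
    rw [hy, hy] at this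
    exact_mod_cast this
  have e3 : a (one1 G) = 1 := by
    have : (1 : ℂ) = _ := hy (one1 G)
    exact_mod_cast this.symm
  simp only [hy, Complex.normSq_intCast, h5.card_Cx, hv] at h1
  have h2 : ∑ χ, a χ * a χ = 10 := by exact_mod_cast h1
  rw [sum_irr_split hn] at h2
  set R := Finset.univ.filter (· ∉ T.L ++ [F.c 1, F.c 2, F.c 3]) with hR
  simp only [List.cons_append, List.nil_append, List.map_cons, List.map_nil, List.sum_cons,
    List.sum_nil, e1, e2, e3, ← I.c0, I.s0, I.s1, I.s2, I.s3] at h2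
  have h3 : 0 ≤ ∑ χ ∈ R, a χ * a χ := Finset.sum_nonneg fun _ _ => mul_self_nonneg _
  have m0 := hm (T.c 0)
  have m1 := hm (T.c 1)
  have m2 := hm (T.c 2)
  have mE := hm T.E
  rw [K.d0] at m0; rw [K.d1] at m1; rw [K.d2] at m2; rw [K.dE] at mE
  have n0 := mul_self_nonneg (a (T.c 0))
  have n1 := mul_self_nonneg (a (T.c 1))
  have n2 := mul_self_nonneg (a (T.c 2))
  have nE := mul_self_nonneg (a T.E)
  have bd : ∀ z : ℤ, z * z ≤ 5 → -2 ≤ z ∧ z ≤ 2 := fun z hz => by constructor <;> nlinarith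
  have a0 : a (T.c 0) = 0 := by have := bd (a (T.c 0)) (by omega); omega
  have a1 : a (T.c 1) = -1 := by have := bd (a (T.c 1)) (by omega); omega
  have a2 : a (T.c 2) = 0 := by have := bd (a (T.c 2)) (by omega); omega
  have aE : a T.E = 1 := by have := bd (a T.E) (by omega); omega
  rw [a0, a1, a2, aE] at h2
  have h4 : ∑ χ ∈ R.filter (a · ≠ 0), a χ * a χ = 2 := by
    rw [Finset.sum_filter_of_ne (f := fun χ => a χ * a χ) (p := (a · ≠ 0))
      fun χ _ e e' => e (by simp [e'])]; omega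
  have h6 : ∀ χ ∈ R.filter (a · ≠ 0), a χ = 1 ∨ a χ = -1 := fun χ hχ => by
    have e4 := Finset.single_le_sum (f := fun χ => a χ * a χ) (fun _ _ => mul_self_nonneg _) hχ
    have e5 := (Finset.mem_filter.1 hχ).2
    rw [h4] at e4
    have : -2 < a χ ∧ a χ < 2 := by constructor <;> nlinarith
    omega
  rw [Finset.sum_congr rfl fun χ hχ => sgn_sq (h6 χ hχ), Finset.sum_const, nsmul_eq_mul,
    mul_one] at h4
  obtain ⟨α, β, h7, h8⟩ := Finset.card_eq_two.1 (by exact_mod_cast h4)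
  have hα : α ∈ R.filter (a · ≠ 0) := by simp [h8]
  have hβ : β ∈ R.filter (a · ≠ 0) := by simp [h8]
  refine ⟨α, β, a α, a β, List.nodup_append.2 ⟨hn, by simp [h7], fun c hc d hd e => ?_⟩, ha α,
    ha β, hm α, hm β, h6 α hα, h6 β hβ, by rw [hy, a0], by rw [hy, a1], by rw [hy, a2],
    by rw [hy, aE], fun χ hχ => ?_⟩
  · simp only [List.mem_cons, List.not_mem_nil, or_false] at hd
    rcases hd with rfl | rfl
    · exact (Finset.mem_filter.1 (Finset.mem_filter.1 hα).1).2 (e ▸ hc)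
    · exact (Finset.mem_filter.1 (Finset.mem_filter.1 hβ).1).2 (e ▸ hc)
  · rw [List.mem_append, not_or] at hχ
    by_contra e
    have : χ ∈ R.filter (a · ≠ 0) := Finset.mem_filter.2 ⟨Finset.mem_filter.2
      ⟨Finset.mem_univ _, hχ.1⟩, fun e' => e (by rw [hy, e', Int.cast_zero])⟩
    rw [h8] at this
    exact hχ.2 (by simpa using this)

variable {α β : IrrCharacter G} {a b : ℤ}

theorem IsAB.theta (A : IsAB T F α β a b) (I : IsF T F u) {g : G} (h1 : ¬ 5 ∣ orderOf g)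
    (h2 : ¬ 11 ∣ orderOf g) : 2 * T.E.1 g - (T.c 1).1 g + a * α.1 g + b * β.1 g = 0 := by
  have h3 := column_orthogonality_of_not_isConj (x := g) (y := y) fun e => h1 (by
    rw [H9.orderOf_of_isConj e, h5.ord])
  have h4 := F.lin g h1
  have ya := A.va 1 one_ne_zero
  have yb := A.vb 1 one_ne_zero
  rw [xp_one] at ya yb
  rw [sum_irr_list A.nodup _ fun χ hχ => by simp [A.other χ hχ]] at h3
  simp only [List.cons_append, List.nil_append, List.map_cons, List.map_nil, List.sum_cons,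
    List.sum_nil, ← I.c0, F.val_self, A.y0, A.y1, A.y2, A.yE, ya, yb, T.reg g h2,
    T.reg y (by rw [h5.ord]; decide), map_intCast, Pi.one_apply, map_one, Fin.sum_univ_four,
    I.s0, I.s1, I.s2, I.s3] at h3 h4
  push_cast at h3 h4
  linear_combination h3 - h4

theorem IsAB.notMem (A : IsAB T F α β a b) : α ∉ T.L ++ [F.c 1, F.c 2, F.c 3] ∧
    β ∉ T.L ++ [F.c 1, F.c 2, F.c 3] :=
  ⟨fun h => (List.nodup_append.1 A.nodup).2.2 _ h α (by simp) rfl,
    fun h => (List.nodup_append.1 A.nodup).2.2 _ h β (by simp) rfl⟩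

end

/-- The facts on the remaining characters and on the Frobenius-Schur indicators. -/
structure IsFS {h : DefOne 5 y} (T : T11 x) (F : Full h 4) (α β : IrrCharacter G) (u z : G) :
    Prop where
  da : deg α = 11
  db : deg β = 11
  fs : ∀ χ, χ ≠ T.E → χ ≠ T.E' → fsI χ = 1
  d55 : ∀ χ, χ ∉ (T.L ++ [F.c 1, F.c 2, F.c 3]) ++ [α, β] → deg χ = 55
  cnj : ∀ t : G, t ^ 2 = 1 → t ≠ 1 → IsConj u t ∨ IsConj z t

namespace M12
variable (hN : Nat.card G = 95040) (h : DefOne 11 x) {h5 : DefOne 5 y} {T : T11 x} {F : Full h5 4}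
  {u : G} {α β : IrrCharacter G} {a b : ℤ}
include hN h

theorem isFS (K : IsK T) (I : IsF T F u) (A : IsAB T F α β a b) (hu2 : u ^ 2 = 1) (hu1 : u ≠ 1)
    {z : G} (hz2 : z ^ 2 = 1) (hz1 : z ≠ 1) (hz : Nat.card (Cx z) = 192) :
    a = 1 ∧ b = 1 ∧ IsFS T F α β u z := by
  classical
  have t1 := A.theta I (g := 1) not_dvd_orderOf_one not_dvd_orderOf_one
  simp only [deg_eq, K.dE, K.d1] at t1
  have t2 : a * deg α + b * deg β = 22 := by
    have : (a * deg α + b * deg β : ℂ) = 22 := by push_cast at t1; linear_combination t1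
    exact_mod_cast this
  have ea := T.dvd_deg h.pow_p fun e => A.notMem.1 (List.mem_append_left _ e)
  have eb := T.dvd_deg h.pow_p fun e => A.notMem.2 (List.mem_append_left _ e)
  set R := Finset.univ.filter (· ∉ (T.L ++ [F.c 1, F.c 2, F.c 3]) ++ [α, β]) with hR
  have r1 : ∀ χ ∈ R, 55 ≤ deg χ := fun χ hχ => by
    have e1 := (Finset.mem_filter.1 hχ).2
    have e2 := T.dvd_deg h.pow_p fun e => e1 (List.mem_append_left _ (List.mem_append_left _ e))
    have e3 := dvd_deg_of_zero (p := 5) χ h5.pow_p (A.other χ e1)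
    have := deg_pos χ
    omega
  have s1 := sum_irr_degree_sq (G := G)
  simp only [deg_eq, hN] at s1
  have s2 : ∑ χ : IrrCharacter G, (deg χ : ℤ) * deg χ = 95040 := by exact_mod_cast s1
  have s3 := card_sqrt (1 : G)
  simp only [deg_eq] at s3
  have s4 : (Nat.card {g : G // g ^ 2 = 1} : ℤ) = ∑ χ : IrrCharacter G, fsI χ * deg χ := by
    exact_mod_cast s3
  rw [sum_irr_split A.nodup, ← hR] at s2 s4
  simp only [List.cons_append, List.nil_append, List.map_cons, List.map_nil, List.sum_cons,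
    List.sum_nil, deg_one1, K.d0, K.d1, K.d2, K.d3, K.dE, T.deg_E', I.d1, I.d2, I.d3,
    fsI_eq_zero T.cc_E_ne, fsI_eq_zero T.cc_E'_ne] at s2 s4
  have r2 : ∀ χ ∈ R, 55 * (deg χ : ℤ) ≤ deg χ * deg χ := fun χ hχ =>
    mul_le_mul_of_nonneg_right (by exact_mod_cast r1 χ hχ) (Nat.cast_nonneg _)
  have r3 : ∀ χ : IrrCharacter G, fsI χ * deg χ ≤ deg χ := fun χ => by
    have := mul_le_mul_of_nonneg_right (fsI_le χ) (Nat.cast_nonneg (α := ℤ) (deg χ))
    rwa [one_mul] at this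
  have r4 := Finset.sum_le_sum r2
  have r5 := Finset.sum_le_sum (s := R) fun χ _ => r3 χ
  rw [← Finset.mul_sum] at r4
  have c1 : ∀ g, (g = 1 ∨ IsConj u g) ∨ IsConj z g → g ^ 2 = 1 := by
    rintro g ((rfl | e) | e)
    · simp
    · obtain ⟨c, rfl⟩ := isConj_iff.1 e; rw [conj_pow, hu2]; simp
    · obtain ⟨c, rfl⟩ := isConj_iff.1 e; rw [conj_pow, hz2]; simp
  have c2 : Nat.card {g // (g = 1 ∨ IsConj u g) ∨ IsConj z g} = 892 := by
    rw [H9.card_subtype_or, H9.card_subtype_or, H9.card_subtype_eq_one, H9.card_class,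
      H9.card_class, index_eq hN, index_eq hN, I.C, hz]
    · rintro g rfl e; exact hu1 (isConj_one_left.1 e)
    · rintro g (rfl | e) e'
      · exact hz1 (isConj_one_left.1 e')
      · have := H9.card_Cen_of_isConj (e.trans e'.symm)
        rw [I.C, hz] at this; omega
  have c3 := H9.card_subtype_le_of_imp c1
  have f0 := fsI_le (one1 G)
  have f1 := fsI_le (T.c 0)
  have f2 := fsI_le (T.c 1)
  have f3 := fsI_le (T.c 2)
  have f4 := fsI_le (T.c 3)
  have f5 := fsI_le (F.c 1)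
  have f6 := fsI_le (F.c 2)
  have f7 := fsI_le (F.c 3)
  have f8 := r3 α
  have f9 := r3 β
  have r6 : 0 ≤ ∑ χ ∈ R, (deg χ : ℤ) := Finset.sum_nonneg fun _ _ => Nat.cast_nonneg _
  have b0 : ∀ d : ℕ, (d : ℤ) * d ≤ 9317 → d ≤ 96 := fun d hd => by
    clear * - hd
    nlinarith
  have b1 := b0 (deg α) (by have := mul_self_nonneg (deg β : ℤ); omega)
  have b2 := b0 (deg β) (by have := mul_self_nonneg (deg α : ℤ); omega)
  have ma := A.ma
  have mb := A.mb
  have pa := deg_pos α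
  have pb := deg_pos β
  obtain ⟨g1, g2, g3, g4⟩ : a = 1 ∧ b = 1 ∧ deg α = 11 ∧ deg β = 11 := by
    rcases A.sa with e | e <;> rcases A.sb with e' | e' <;> rw [e, e'] at t2 <;> rw [e] at ma <;>
      rw [e'] at mb
    · omega
    · obtain ⟨e1, e2⟩ : deg α = 66 ∧ deg β = 44 := by omega
      rw [e1, e2] at s2; omega
    · obtain ⟨e1, e2⟩ : deg α = 44 ∧ deg β = 66 := by omega
      rw [e1, e2] at s2; omega
    · omega
  rw [g3, g4] at s2 s4
  rw [g3] at f8
  rw [g4] at f9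
  have r7 := (Finset.sum_eq_sum_iff_of_le r2).1 (by rw [← Finset.mul_sum]; omega)
  have r8 := (Finset.sum_eq_sum_iff_of_le (s := R) fun χ _ => r3 χ).1 (by omega)
  refine ⟨g1, g2, g3, g4, fun χ e1 e2 => ?_, fun χ e => ?_, fun t e1 e2 => ?_⟩
  · by_cases e : χ ∈ R
    · have e3 := r8 χ e
      have e4 := deg_pos χ
      exact mul_right_cancel₀ (by exact_mod_cast e4.ne') (e3.trans (one_mul _).symm)
    · simp only [hR, Finset.mem_filter, Finset.mem_univ, true_and, not_not, List.cons_append,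
        List.nil_append, List.mem_cons, List.not_mem_nil, or_false, e1, e2, false_or] at e
      rcases e with e | e | e | e | e | e | e | e | e | e <;> rw [e] <;> omega
  · have e3 := r7 χ (Finset.mem_filter.2 ⟨Finset.mem_univ _, e⟩)
    have e4 := deg_pos χ
    exact_mod_cast (mul_right_cancel₀ (by exact_mod_cast e4.ne') e3).symm
  · exact ((H9.imp_of_card_le c1 (by omega) t e1).imp_left fun e => e.resolve_left e2)

theorem not_sq (K : IsK T) (I : IsF T F u) (A : IsAB T F α β 1 1) {z : G} (S : IsFS T F α β u z)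
    (hv : Nat.card h5.V = 2) (hu : u ∈ h5.V) (hu2 : u ^ 2 = 1) (hu1 : u ≠ 1) (g : G) :
    g ^ 2 ≠ u := by
  classical
  have key : ∀ γ : IrrCharacter G, γ ∉ T.L ++ [F.c 1, F.c 2, F.c 3] → deg γ = 11 →
      (∀ i : ZMod 5, i ≠ 0 → γ.1 (xp y i) = (1 : ℤ)) → γ.1 u = (-1 : ℤ) := fun γ e1 e2 e3 => by
    have e4 := F.other γ (ne_of_deg (by rw [e2, deg_one1]; decide)) (fun j e => e1 (by
      rw [← e]; fin_cases j <;> simp [I.c0])) 1 one_ne_zero
    rw [Fintype.sum_eq_add (1 : h5.V) ⟨u, hu⟩ (fun e => hu1 (congrArg Subtype.val e).symm)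
      fun v hv' => ((eq_or_of_card_two hv hu hu1 v.2).elim (fun e => hv'.1 (Subtype.ext e))
        fun e => hv'.2 (Subtype.ext e)).elim, OneMemClass.coe_one, mul_one, e3 1 one_ne_zero,
      xp_one] at e4
    obtain ⟨c, e5, e6⟩ := inv_val (perf hN) γ hu2
    have e7 := dvd_val_sub h5 γ hu e5 (b := -1) (by push_cast at e4 ⊢; linear_combination e4)
    have e8 := abs_lt.1 (irr_int_abs_lt (nc hN) (ne_of_deg (by rw [e2, deg_one1]; decide)) hu1 e5)
    rw [e2] at e6 e8
    rw [e5]; congr 1; omega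
  have ua := key α A.notMem.1 S.da A.va
  have ub := key β A.notMem.2 S.db A.vb
  have s1 := card_sqrt u
  have s2 := sum_irr_mul_degree_of_ne_one hu1
  rw [sum_irr_split A.nodup] at s1 s2
  have hne : ∀ χ : IrrCharacter G, deg χ ≠ 16 → fsI χ = 1 := fun χ e =>
    S.fs χ (ne_of_deg (by rwa [K.dE])) (ne_of_deg (by rwa [T.deg_E', K.dE]))
  rw [Finset.sum_congr rfl (g := fun χ => χ.1 u) fun χ hχ => by
    rw [hne χ (by rw [S.d55 χ (Finset.mem_filter.1 hχ).2]; decide), Int.cast_one, one_mul]] at s1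
  rw [Finset.sum_congr rfl (g := fun χ => χ.1 u * 55) fun χ hχ => by
    rw [deg_eq, S.d55 χ (Finset.mem_filter.1 hχ).2, Nat.cast_ofNat], ← Finset.sum_mul] at s2
  simp only [List.cons_append, List.nil_append, List.map_cons, List.map_nil, List.sum_cons,
    List.sum_nil, deg_eq, deg_one1, K.d0, K.d1, K.d2, K.d3, K.dE, T.deg_E', I.d1, I.d2, I.d3, S.da, S.db,
    fsI_eq_zero T.cc_E_ne, fsI_eq_zero T.cc_E'_ne, Pi.one_apply, I.t0, I.t1, I.t2, I.t3, I.tE,
    I.u1, I.u2, I.u3, ua, ub, T.reg u (by rw [orderOf_eq_prime hu2 hu1]; decide),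
    hne (one1 G) (by rw [deg_one1]; decide), hne (T.c 0) (by rw [K.d0]; decide),
    hne (T.c 1) (by rw [K.d1]; decide), hne (T.c 2) (by rw [K.d2]; decide),
    hne (T.c 3) (by rw [K.d3]; decide), hne (F.c 1) (by rw [I.d1]; decide),
    hne (F.c 2) (by rw [I.d2]; decide), hne (F.c 3) (by rw [I.d3]; decide),
    hne α (by rw [S.da]; decide), hne β (by rw [S.db]; decide)] at s1 s2
  have s3 : (Nat.card {g : G // g ^ 2 = u} : ℂ) = 0 := by
    push_cast at s1 s2
    linear_combination s1 + s2 / 55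
  intro e
  have : Nonempty {g : G // g ^ 2 = u} := ⟨⟨g, e⟩⟩
  exact Nat.card_pos.ne' (by exact_mod_cast s3)

theorem sym_sq (K : IsK T) (I : IsF T F u) (A : IsAB T F α β 1 1) {z : G} (S : IsFS T F α β u z)
    {r : G} (h1 : α.1 r = -1) (h2 : β.1 r = -1) (h3 : α.1 (r ^ 2) = 3) : (T.c 1).1 r = 2 := by
  classical
  obtain ⟨c, hc, e⟩ := char_exists_coeff (char_sym_sq (irr_isCharacter α.2))
  have c1 : c (one1 G) = 1 := by
    have := hc (one1 G)
    rw [show (one1 G).1 = 1 from rfl, sym_of_fsI (S.fs α (ne_of_deg (by rw [S.da, K.dE]; decide))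
      (ne_of_deg (by rw [S.da, T.deg_E', K.dE]; decide)))] at this
    exact_mod_cast this.symm
  have ev : ∀ g, (α.1 g ^ 2 + α.1 (g ^ 2)) / 2 = ∑ χ, (c χ : ℂ) * χ.1 g := fun g => by
    have := congrFun e g
    simpa [Finset.sum_apply] using this
  have hα : α ∉ T.L := fun e => A.notMem.1 (List.mem_append_left _ e)
  have v1 := ev 1
  have vx := ev x
  have vx' := ev x⁻¹
  have vy := ev y
  have vr := ev r
  have x1 : α.1 (x ^ 2) = (0 : ℤ) := (T.other α hα 2 (by decide)).trans Int.cast_zero.symm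
  have x2 : α.1 x = (0 : ℤ) := by simpa using T.other_x hα
  have ya := A.va 1 one_ne_zero
  have yb := A.vb 1 one_ne_zero
  rw [xp_one] at ya yb
  rw [sum_irr_list T.nodup _ fun χ e => by simp [T.other_x e], x1, x2] at vx
  rw [sum_irr_list T.nodup _ fun χ e => by
    simp [← char_conj_eq (irr_isCharacter χ.2), T.other_x e], inv_pow, val_inv x1, val_inv x2]
    at vx'
  rw [sum_irr_list A.nodup _ fun χ e => by simp [A.other χ e], ya,
    show α.1 (y ^ 2) = (1 : ℤ) from A.va 2 (by decide)] at vy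
  rw [sum_irr_split A.nodup] at v1 vr
  rw [Finset.sum_congr rfl (g := fun χ => (c χ : ℂ) * 55) fun χ hχ => by
    rw [deg_eq, S.d55 χ (Finset.mem_filter.1 hχ).2, Nat.cast_ofNat], ← Finset.sum_mul,
    ← Nat.cast_sum] at v1
  have xE := T.valE_x
  have y3 : (T.c 3).1 y = (-1 : ℤ) := by rw [← I.c0, F.val_self, I.s0]
  simp only [List.cons_append, List.nil_append, List.map_cons, List.map_nil, List.sum_cons,
    List.sum_nil, deg_eq, deg_one1, K.d0, K.d1, K.d2, K.d3, K.dE, T.deg_E', I.d1, I.d2, I.d3, S.da, S.db,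
    Pi.one_apply, one_pow, c1, T.val_x, val_inv (T.val_x _), K.s0, K.s1, K.s2, K.s3, K.sE,
    T.valE'', ← T.valE', A.y0, A.y1, A.y2, A.yE, y3, ya, yb, T.reg y (by rw [h5.ord]; decide),
    F.val_self, I.s1, I.s2, I.s3, h1, h2, h3] at v1 vx vx' vy vr xE
  set Z := ∑ χ ∈ Finset.univ.filter (· ∉ one1 G :: T.c 0 :: T.c 1 :: T.c 2 :: T.c 3 :: T.E ::
    T.E' :: [F.c 1, F.c 2, F.c 3, α, β]), c χ with hZ
  have w1 : 66 = 1 + c (T.c 0) * 120 + c (T.c 1) * 54 + c (T.c 2) * 45 + c (T.c 3) * 144 +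
      c T.E * 16 + c T.E' * 16 + c (F.c 1) * 99 + c (F.c 2) * 66 + c (F.c 3) * 176 + c α * 11 +
      c β * 11 + Z * 55 := by
    apply Nat.cast_injective (R := ℂ)
    push_cast at v1 ⊢
    linear_combination v1
  have w2 : 2 + 2 * c (T.c 2) + 2 * c (T.c 3) = 2 * c (T.c 0) + 2 * c (T.c 1) + c T.E + c T.E' := by
    apply Nat.cast_injective (R := ℂ)
    push_cast at vx vx' xE ⊢
    linear_combination -vx - vx' - (c T.E + c T.E' : ℂ) * xE
  have w3 : c (T.c 1) + c (T.c 3) + c (F.c 1) =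
      c T.E + c T.E' + c (F.c 2) + c (F.c 3) + c α + c β := by
    apply Nat.cast_injective (R := ℂ)
    push_cast at vy ⊢
    linear_combination vy
  have w4 : c (T.c 0) = 0 ∧ c (T.c 1) = 1 ∧ c (T.c 2) = 0 ∧ c (T.c 3) = 0 ∧ c T.E = 0 ∧
      c T.E' = 0 ∧ c (F.c 1) = 0 ∧ c (F.c 2) = 0 ∧ c (F.c 3) = 0 ∧ c α + c β = 1 ∧ Z = 0 := by
    clear * - w1 w2 w3
    have a1 : c (T.c 0) = 0 ∧ c (T.c 3) = 0 ∧ c (F.c 1) = 0 ∧ c (F.c 2) = 0 ∧ c (F.c 3) = 0 := by
      omega
    have a2 : c (T.c 1) = 1 := by omega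
    omega
  obtain ⟨z0, z1, z2, z3, z4, z5, z6, z7, z8, z9, z10⟩ := w4
  rw [Finset.sum_eq_zero fun χ hχ => by
    rw [Finset.sum_eq_zero_iff.1 z10 χ hχ, Nat.cast_zero, zero_mul], z0, z1, z2, z3, z4, z5, z6,
    z7, z8] at vr
  have z11 : (c α : ℂ) + c β = 1 := by exact_mod_cast z9
  push_cast at vr
  linear_combination -vr + z11

end M12

end H2
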