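import Cfsg.Agent.H2.M12c
import Cfsg.Agent.H2.Perm12

/-! A simple group of order 95040 is the Mathieu group of degree 12. -/

set_option autoImplicit false
set_option linter.unusedSectionVars false

namespace H2
open Cfsg H8 Subgroup MulAction
open scoped Pointwise

namespace M12

section
variable {G : Type*} [Group G] [Fintype G] [IsSimpleGroup G] {x y : G}

theorem Nx_le (h5 : DefOne 5 y) {u r : G} (hv : Nat.card h5.V = 2) (hu : u ∈ h5.V) (hu1 : u ≠ 1)
    (hr : r ∈ Nx y) (hry : r * y * r⁻¹ = y ^ 2) {K : Subgroup G} (h1 : y ∈ K) (h2 : r ∈ K)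
    (h3 : u ∈ K) : Nx y ≤ K := fun g hg => by
  have e1 : (h5.nu ⟨r, hr⟩ : ZMod 5) = 2 := h5.xp_injective ((h5.nu_spec ⟨r, hr⟩).symm.trans hry)
  have e2 : ∀ a : ZMod 5, a ≠ 0 → ∃ k < 4, 2 ^ k = a := by decide
  obtain ⟨k, -, hk⟩ := e2 _ (h5.nu ⟨g, hg⟩).ne_zero
  have e3 : (r ^ k)⁻¹ * g ∈ Cx y := (h5.nu_eq_one_iff ((⟨r, hr⟩ ^ k)⁻¹ * ⟨g, hg⟩)).1 (by
    rw [map_mul, map_inv, map_pow, inv_mul_eq_one]
    exact Units.ext (by rw [Units.val_pow_eq_pow_val, e1, hk]))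
  obtain ⟨v, hv', e4⟩ := h5.exists_decomp e3
  have e5 : v ∈ K := by
    rcases eq_or_of_card_two hv hu hu1 hv' with rfl | rfl
    exacts [one_mem _, h3]
  rw [← mul_inv_cancel_left (r ^ k) g, e4]
  exact mul_mem (pow_mem h2 k) (mul_mem (pow_mem h1 _) e5)

theorem data (hN : Nat.card G = 95040) : ∃ (x y r u : G) (H : Subgroup G), orderOf x = 11 ∧
    y * x * y⁻¹ = x ^ 3 ∧ r * y * r⁻¹ = y ^ 2 ∧ u * y = y * u ∧ H.index = 12 ∧ x ∈ H ∧ y ∈ H ∧
    r ∈ H ∧ u ∉ H ∧ ∀ K : Subgroup G, x ∈ K → y ∈ K → r ∈ K → u ∈ K → K = ⊤ := by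
  obtain ⟨x, h⟩ := exists_defOne (p := 11) (m := 8640) hN (by decide)
  obtain ⟨hV, he, -, -, hNx⟩ := loc11 hN h
  obtain ⟨y, hy, hyx, hy5⟩ := exists_y h hV he
  have h5 : DefOne 5 y := ⟨hy5, by rw [hN]; decide⟩
  obtain ⟨T⟩ := exists_T11 h hV he
  obtain ⟨K, he5⟩ := isK hN h h5 T
  obtain ⟨F⟩ := exists_full h5 (n := 4) rfl he5
  obtain ⟨u, hu, hu2, hu1⟩ := exists_u hN h h5
  have I := isF hN h h5 K F hu hu2 hu1
  have hv := card_V5 hN h h5 K F I he5
  obtain ⟨α, β, a, b, A⟩ := exists_AB K I he5 hv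
  obtain ⟨z, hz, hz3⟩ := exists_central_of_prime (G := G) 2 (by rw [hN]; decide)
  have hz1 : z ≠ 1 := by rintro rfl; simp at hz
  have hz2 : z ^ 2 = 1 := hz ▸ pow_orderOf_eq_one z
  obtain ⟨z1, z2, z3⟩ := (inv_type hN h K hz2 hz1).resolve_left fun e => by
    rw [index_eq hN] at hz3
    rcases e.1 with e | e <;> rw [e] at hz3 <;> exact hz3 (by decide)
  obtain ⟨rfl, rfl, S⟩ := isFS hN h K I A hu2 hu1 hz2 hz1 z1
  have hsq := not_sq hN h K I A S hv hu hu2 hu1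
  obtain ⟨w, hw, hwy⟩ := exists_w h5 he5
  have w4 : w ^ 4 ∈ Cx y := he5 ▸ pow_card_H h5 hw
  obtain ⟨r, hr, hry, r4⟩ : ∃ r ∈ Nx y, r * y * r⁻¹ = y ^ 2 ∧ r ^ 4 = 1 := by
    refine ⟨w ^ 5, pow_mem hw 5, ?_, ?_⟩
    · rw [← hwy, pow_succ' w 4, mul_assoc w, mem_Cx.1 w4]; group
    · obtain ⟨v, hv', e⟩ := h5.exists_decomp w4
      have e1 : (w ^ 5) ^ 4 = v ^ 5 := by
        rw [← pow_mul, mul_comm, pow_mul, e, (h5.commute_xp_V _ hv').mul_pow, xp_pow h5.pow_p,
          show ((5 : ℕ) : ZMod 5) = 0 from rfl, zero_mul, xp_zero, one_mul]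
      rcases eq_or_of_card_two hv hu hu1 hv' with rfl | rfl
      · rw [e1, one_pow]
      · rw [show 5 = 2 * 2 + 1 from rfl, pow_succ v, pow_mul v, hu2, one_pow, one_mul] at e1
        exact absurd (by rw [← pow_mul (w ^ 5)]; exact e1) (hsq ((w ^ 5) ^ 2))
  have s1 := sq_not_mem_Cx h5 hry
  have s2 : r ^ 2 ≠ 1 := fun e => s1 (e ▸ one_mem _)
  have s3 : (r ^ 2) ^ 2 = 1 := by rw [← pow_mul, r4]
  have ro : orderOf r = 4 := orderOf_eq_prime_pow (p := 2) (n := 1) s2 r4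
  have s4 : IsConj z (r ^ 2) := (S.cnj _ s3 s2).resolve_left fun e => by
    obtain ⟨c, hc⟩ := isConj_iff.1 e.symm
    exact hsq (c * r * c⁻¹) (by rw [conj_pow, hc])
  have s5 := A.theta I (g := r ^ 2) (by rw [orderOf_eq_prime s3 s2]; decide)
    (by rw [orderOf_eq_prime s3 s2]; decide)
  obtain ⟨a1, a2, -⟩ := inv_val (perf hN) α s3
  obtain ⟨b1, b2, -⟩ := inv_val (perf hN) β s3
  have bd : ∀ {γ : IrrCharacter G}, deg γ = 11 → (∀ i : ZMod 5, i ≠ 0 → γ.1 (xp y i) = (1 : ℤ)) →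
      ∀ {n : G}, n ∈ Nx y → n ∉ Cx y → ∀ {c : ℤ}, γ.1 n = c → c ≤ 3 ∧ -3 ≤ c :=
    fun e1 e2 n e3 e4 c e5 => by
    have := abs_le.1 (abs_le_of_coset h5 _ e2 (m := 3) (by rw [e1]; rfl) e3 e4 e5)
    simpa [and_comm] using this
  rw [val_conj T.E s4, val_conj (T.c 1) s4, z2, z3, a2, b2] at s5
  have s6 : a1 + b1 = 6 := by
    have : (a1 + b1 : ℂ) = 6 := by push_cast at s5; linear_combination s5
    exact_mod_cast this
  obtain rfl : a1 = 3 := by
    have := bd S.da A.va (pow_mem hr 2) s1 a2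
    have := bd S.db A.vb (pow_mem hr 2) s1 b2
    omega
  obtain rfl : b1 = 3 := by omega
  have hne : ∀ χ : IrrCharacter G, deg χ = 11 → cc χ = χ := fun χ e => cc_of_fsI
    (S.fs χ (ne_of_deg (by rw [K.dE, e]; decide)) (ne_of_deg (by rw [T.deg_E', K.dE, e]; decide)))
  obtain ⟨a3, a4, a5⟩ := four_val (perf hN) α r4 (real_of_cc (hne α S.da) r) a2
  obtain ⟨b3, b4, b5⟩ := four_val (perf hN) β r4 (real_of_cc (hne β S.db) r) b2
  obtain ⟨e3, e4, e5⟩ := four_val (perf hN) T.E r4 (T.realE (by rw [ro]; decide))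
    ((val_conj T.E s4).trans z3)
  have s7 := A.theta I (g := r) (by rw [ro]; decide) (by rw [ro]; decide)
  obtain ⟨γ, g1, g2, g3, g4⟩ : ∃ γ : IrrCharacter G, deg γ = 11 ∧ γ ∉ T.L ∧
      (∀ i : ZMod 5, i ≠ 0 → γ.1 (xp y i) = (1 : ℤ)) ∧ γ.1 r = 3 := by
    have f1 := bd S.da A.va hr (not_mem_Cx_of_sq s1) a4
    have f2 := bd S.db A.vb hr (not_mem_Cx_of_sq s1) b4
    rw [S.da] at a5
    rw [S.db] at b5
    rw [K.dE] at e5
    by_cases f3 : a3 = 3
    · exact ⟨α, S.da, fun e => A.notMem.1 (List.mem_append_left _ e), A.va, by simp [a4, f3]⟩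
    by_cases f4 : b3 = 3
    · exact ⟨β, S.db, fun e => A.notMem.2 (List.mem_append_left _ e), A.vb, by simp [b4, f4]⟩
    obtain rfl : a3 = -1 := by omega
    obtain rfl : b3 = -1 := by omega
    rw [sym_sq hN h K I A S (by simpa using a4) (by simpa using b4) (by simpa using a2), a4, b4,
      e4] at s7
    have f5 : 2 * e3 = 4 := by
      have : (2 * e3 : ℂ) = 4 := by push_cast at s7; linear_combination s7
      exact_mod_cast this
    omega
  have hH := trick11 h hV he h5 hy g1 (T.other γ g2) (by simpa using g3) hr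
    (not_mem_Cx_of_sq s1) g4
  have hx : x ∈ Nx x := Cx_le_Nx self_mem_Cx
  have hNy : Nat.card (Nx y) = 40 := by rw [h5.card_Nx, h5.card_Cx, hv, he5]
  have hn : ∀ n ∈ dvs 1728, n % 11 = 1 → n = 1 ∨ n = 12 ∨ n = 144 ∨ n = 1728 := by decide +kernel
  have key : ∀ L : Subgroup G, x ∈ L → y ∈ L → Nat.card L = 55 ∨ Nat.card L = 660 ∨
      Nat.card L = 7920 ∨ Nat.card L = 95040 := fun L k1 k2 => by
    obtain ⟨n, n1, n2⟩ := card_eq_mul_Nx h k1
    rw [card_inf_eq hx k1 hy k2 (by rw [h.ord, hy5]; decide) (by rw [h.ord, hy5, hNx]), hNx] at n2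
    have n3 := card_subgroup_dvd_card L
    rw [hN, n2] at n3
    rcases hn n (mem_dvs (by norm_num) (Nat.dvd_of_mul_dvd_mul_right (by norm_num : 0 < 55) n3)) n1
      with rfl | rfl | rfl | rfl <;> omega
  have gen : ∀ L : Subgroup G, x ∈ L → y ∈ L → r ∈ L → u ∈ L → L = ⊤ := fun L k1 k2 k3 k4 => by
    obtain ⟨n, n1, n2⟩ := card_eq_mul_Nx h5 k2
    rw [inf_eq_left.2 (Nx_le h5 hv hu hu1 hr hry k2 k3 k4), hNy] at n2
    exact eq_top_of_card_eq _ (by have := key L k1 k2; omega)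
  have m1 : x ∈ Nx x ⊔ zpowers r := mem_sup_left hx
  have m2 : y ∈ Nx x ⊔ zpowers r := mem_sup_left hy
  have m3 : r ∈ Nx x ⊔ zpowers r := mem_sup_right (mem_zpowers r)
  refine ⟨x, y, r, u, Nx x ⊔ zpowers r, h.ord, hyx, hry, mem_Cx.1 (h5.V_le hu), ?_, m1, m2, m3,
    fun e => hH (gen _ m1 m2 m3 e), gen⟩
  have e1 := (Nx x ⊔ zpowers r).card_mul_index
  obtain ⟨n, n1, n2⟩ := card_eq_mul_Nx h5 m2
  have n3 := orderOf_dvd_natCard _ (mem_inf.2 ⟨hr, m3⟩)
  have n4 := orderOf_dvd_natCard _ (mem_inf.2 ⟨Cx_le_Nx (self_mem_Cx (x := y)), m2⟩)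
  have n5 := Nat.le_of_dvd (by omega) (card_dvd_of_le (inf_le_left : Nx y ⊓ (Nx x ⊔ zpowers r) ≤ _))
  have n6 : 0 < Nat.card ↥(Nx y ⊓ (Nx x ⊔ zpowers r)) := Nat.card_pos
  rw [ro] at n3
  rw [hy5] at n4
  have n7 : Nat.card ↥(Nx y ⊓ (Nx x ⊔ zpowers r)) = 20 ∨
    Nat.card ↥(Nx y ⊓ (Nx x ⊔ zpowers r)) = 40 := by omega
  rcases key _ m1 m2 with e | e | e | e
  · rcases n7 with e' | e' <;> rw [e'] at n2 <;> omega
  · rcases n7 with e' | e' <;> rw [e'] at n2 <;> omega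
  · rw [e, hN] at e1; omega
  · exact absurd (eq_top_of_card_eq _ (e.trans hN.symm)) hH

end

def cX : ℕ := 984818244532127404768141630435799331
def cY : ℕ := 984818244521247367539424976518422601
def cY2 : ℕ := 984818244517620157735355511009067267
def cK : ℕ := 1153031455770807362
def cA : ℕ := 984818244535754529256620077659636237
def cN : ℕ := 984818244527291593115411314648428968
def cI : ℕ := 984818229680474056678985753553897504
def certs : List ℕ := [719999854231860143235624559395778851, 934174137089171073077556159391899721,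
  796584648671416740452634965822152812, 463725151818583207197935254756427907,
  844051429096571871485409385357877293, 732427425645784901655861156181444105,
  230067594061793603923534050249588812, 429964962518238453675404974378848512,
  220974761094068887785167293370119280, 437764920485409994748320738817683876,
  483186980811340876458043463894049794, 720743237213403524221796075609260417,
  837566589267599724241026173445999912]
def wordsR : List (List ℕ) := [[0, 2, 0, 2, 1], [0, 1, 2, 1], [0, 2, 0, 2, 2], [0, 0, 2, 0, 2, 1],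
  [0, 0, 2], [0, 2, 1, 1], [0, 0, 2, 1, 1], [0, 1, 0, 2, 0, 2], [0, 2, 1]]
def wordsU : List (List ℕ) := [[0, 2, 2, 3], [0, 0, 2, 2, 3], [0, 2, 1, 2, 3], [0, 2, 2, 1, 3],
  [0, 3, 2, 2], [0, 1, 3, 2, 2], [0, 1, 3, 2, 3], [0, 3, 2, 1, 2], [0, 3, 2, 2, 1], [0, 2, 0, 3],
  [0, 0, 2, 1, 3], [0, 0, 3], [0, 2, 1, 0, 3], [0, 2, 2, 2, 3]]

/-- The test for the last generator. -/
def chkU (N R : ℕ) : Bool := (List.range 24).all fun u => (List.range 24).all fun v =>
  force (mkC cY cK cA cI 16 13 u v) fun U =>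
    !isPerm U || badW [cX, cY, R, U] wordsU || okC N dodD certs U

theorem allIn_certs : AllIn (stS (fs dodD)) certs := fun c hc => by
  have : ∀ c ∈ certs, inM24 c = true ∧ imgC c dodD = dodD := by decide +kernel
  exact (repIn_M24 (this c hc).1).stab_fs (this c hc).2

theorem check : ∀ u < 24, ∀ v < 24, force (mkC cY2 cK cA oneC 16 13 u v) (fun R =>
    !isPerm R || badW [cX, cY, R] wordsR || (okC oneC dodD certs R && chkU oneC R) ||
      (okC cN dodD certs R && chkU cN R)) = true := by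
  decide +kernel

theorem iso {G : Type*} [Group G] [Finite G] [IsSimpleGroup G] (hN : Nat.card G = 95040) :
    Nonempty (G ≃* stS (fs dodD)) := by
  have := Fintype.ofFinite G
  obtain ⟨x, y, r, u, H, hx, hy, hr, hu, hH, h1, h2, h3, h4, gen⟩ := data hN
  obtain ⟨φ, p1, p2, p3, p4, p5⟩ := exists_rep12 hH hx hy h1 h2 (L := 658689941370451462)
    (S := dodD) (X := cX) (Y := cY) (by decide +kernel)
  have p6 : Rep (φ (y ^ 2)) cY2 := by
    rw [sq, map_mul, show cY2 = mulC cY cY by decide +kernel]; exact p3.mul p3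
  have p7 : φ r * φ y = φ (y ^ 2) * φ r := by rw [← map_mul, ← map_mul, ← hr]; simp
  have q7 : φ u * φ y = φ y * φ u := by rw [← map_mul, ← map_mul, hu]
  obtain ⟨e1, e2⟩ := (fix_two (a := 18) (b := 6) p3 p6 p7 (p4 r) (by decide +kernel)).resolve_right
    fun e => absurd (e.1.symm.trans ((p5 r).1 h3)) (by decide)
  obtain ⟨f1, f2⟩ := (fix_two (a := 18) (b := 6) p3 p3 q7 (p4 u) (by decide +kernel)).resolve_left
    fun e => h4 ((p5 u).2 e.1)
  obtain ⟨a, ha, b, hb, p8⟩ := rep_norm (K := cK) (A := cA) (I := oneC) (r := 16) (s := 13)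
    (a := 18) (b := 6) p3 p6 p7 (p4 r) (by rw [e1]; decide +kernel) (by rw [e2]; decide +kernel)
    (by decide +kernel)
  obtain ⟨c, hc, d, hd, q8⟩ := rep_norm (K := cK) (A := cA) (I := cI) (r := 16) (s := 13)
    (a := 18) (b := 6) p3 p3 q7 (p4 u) (by rw [f1]; decide +kernel) (by rw [f2]; decide +kernel)
    (by decide +kernel)
  have h7 : Nat.gcd 7 (Nat.card G) = 1 := by rw [hN]; decide
  have p9 := check a ha b hb
  rw [force_eq, p8.isPerm, not_badW φ h7 (.cons ⟨_, ⟨x, rfl⟩, p2⟩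
    (.cons ⟨_, ⟨y, rfl⟩, p3⟩ (.cons ⟨_, ⟨r, rfl⟩, p8⟩ (allIn_nil _))))] at p9
  have q9 : ∀ N, chkU N (mkC cY2 cK cA oneC 16 13 a b) = true →
      okC N dodD certs (mkC cY cK cA cI 16 13 c d) = true := fun N e => by
    simp only [chkU, List.all_eq_true, List.mem_range] at e
    have := e c hc d hd
    rw [force_eq, q8.isPerm, not_badW φ h7 (.cons ⟨_, ⟨x, rfl⟩, p2⟩ (.cons ⟨_, ⟨y, rfl⟩, p3⟩
      (.cons ⟨_, ⟨r, rfl⟩, p8⟩ (.cons ⟨_, ⟨u, rfl⟩, q8⟩ (allIn_nil _)))))] at this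
    simpa only [Bool.not_true, Bool.false_or, Bool.or_false] using this
  simp only [Bool.not_true, Bool.false_or, Bool.or_eq_true, Bool.and_eq_true] at p9
  have hc : Nat.card G = Nat.card (stS (fs dodD)) := by rw [hN, card_M12 dodD_mem]
  have hg : ∀ A : Subgroup G, (∀ g ∈ [x, y, r, u], g ∈ A) → A = ⊤ := fun A hA =>
    gen A (hA _ (by simp)) (hA _ (by simp)) (hA _ (by simp)) (hA _ (by simp))
  rcases p9 with e | e
  · refine iso_of_codes (N := oneC) inf_le_right allIn_certs φ p1 (by decide +kernel)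
      (by decide +kernel) hc _ hg ?_
    simp only [List.forall_mem_cons, List.not_mem_nil, false_imp_iff, implies_true, and_true]
    exact ⟨⟨_, p2, by decide +kernel⟩, ⟨_, p3, by decide +kernel⟩, ⟨_, p8, e.1⟩, _, q8, q9 _ e.2⟩
  · refine iso_of_codes (N := cN) inf_le_right allIn_certs φ p1 (by decide +kernel)
      (by decide +kernel) hc _ hg ?_
    simp only [List.forall_mem_cons, List.not_mem_nil, false_imp_iff, implies_true, and_true]
    exact ⟨⟨_, p2, by decide +kernel⟩, ⟨_, p3, by decide +kernel⟩, ⟨_, p8, e.1⟩, _, q8, q9 _ e.2⟩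

end M12

end H2
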