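import Mathlib
import Cfsg.Agent.H2.Quad
import Cfsg.Agent.H2.TwoD
import Cfsg.Agent.H9.FieldCoord

/-! `2`-groups with an involutory automorphism whose fixed points form a Singer module. -/

set_option autoImplicit false

namespace H2

open Subgroup
open scoped commutatorElement

universe u

/-- `x⁻¹ * α x` -/
def dl {Q : Type*} [Group Q] (α : MulAut Q) (x : Q) : Q := x⁻¹ * α x

section dl

variable {Q : Type*} [Group Q] {α : MulAut Q}

theorem dl_mul (x y : Q) : dl α (x * y) = y⁻¹ * dl α x * y * dl α y := by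
  simp [dl, mul_assoc]

theorem dl_eq_one {x : Q} : dl α x = 1 ↔ α x = x := by rw [dl, inv_mul_eq_one, eq_comm]

theorem apply_dl (h : ∀ x, α (α x) = x) (x : Q) : α (dl α x) = (dl α x)⁻¹ := by
  simp [dl, h]

theorem dl_of_inv {x : Q} (h : α x = x⁻¹) : dl α x = (x ^ 2)⁻¹ := by
  rw [dl, h, pow_two, mul_inv_rev]

theorem exists_fixed_central [Finite Q] (hQ : IsPGroup 2 Q) [Nontrivial Q]
    (h : ∀ x, α (α x) = x) : ∃ z : Q, z ≠ 1 ∧ z ∈ center Q ∧ α z = z := by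
  obtain ⟨z, -, h1, hc, h2⟩ := H7.exists_central_order_p hQ (K := ⊤) top_ne_bot
  have h3 : α z ∈ center Q := by
    rw [mem_center_iff] at hc ⊢
    intro g
    obtain ⟨g, rfl⟩ := α.surjective g
    rw [← map_mul, ← map_mul, hc]
  by_cases h4 : z * α z = 1
  · exact ⟨z, h1, hc, mul_left_cancel (h4.trans (by rw [← pow_two, h2]))⟩
  · exact ⟨_, h4, mul_mem hc h3, by rw [map_mul, h, mem_center_iff.mp hc]⟩

end dl

/-- the standing hypotheses -/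
structure SHyp {K : Type*} [Field K] (l : K) (Q : Type u) [Group Q] (α ρ : MulAut Q)
    (u : K → Q) : Prop where
  two : (2 : K) = 0
  hl : ∀ t : K, t ≠ 0 → ∃ k : ℕ, l ^ k = t
  pg : IsPGroup 2 Q
  inv : ∀ x, α (α x) = x
  comm : ∀ x, α (ρ x) = ρ (α x)
  ord : ρ ^ (Nat.card K - 1) = 1
  inj : Function.Injective u
  add : ∀ s t, u (s + t) = u s * u t
  fix : ∀ x, α x = x ↔ ∃ t, u t = x
  hρ : ∀ t, ρ (u t) = u (l * t)

namespace SHyp

variable {K : Type*} [Field K] {l : K} {Q : Type u} [Group Q] {α ρ : MulAut Q} {u : K → Q}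

theorem u0 (h : SHyp l Q α ρ u) : u 0 = 1 := map_zero_of_add h.add

theorem u2 (h : SHyp l Q α ρ u) (s : K) : u s * u s = 1 := by
  have := h.two
  rw [← h.add, show s + s = 0 by grind, h.u0]

theorem uinv (h : SHyp l Q α ρ u) (s : K) : (u s)⁻¹ = u s := inv_eq_of_mul_eq_one_right (h.u2 s)

theorem dl_ρ (h : SHyp l Q α ρ u) (x : Q) : dl α (ρ x) = ρ (dl α x) := by simp [dl, h.comm]

theorem pow_u (h : SHyp l Q α ρ u) (k : ℕ) (t : K) : (ρ ^ k) (u t) = u (l ^ k * t) := by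
  induction k with
  | zero => simp
  | succ k ih => rw [pow_succ', MulAut.mul_apply, ih, h.hρ, pow_succ', mul_assoc]

theorem dl_pow (h : SHyp l Q α ρ u) (k : ℕ) (x : Q) : dl α ((ρ ^ k) x) = (ρ ^ k) (dl α x) := by
  induction k with
  | zero => simp
  | succ k ih => rw [pow_succ', MulAut.mul_apply, h.dl_ρ, ih, MulAut.mul_apply]

theorem dl_u (h : SHyp l Q α ρ u) (t : K) : dl α (u t) = 1 := dl_eq_one.mpr ((h.fix _).mpr ⟨t, rfl⟩)

/-- surjectivity of homogeneous maps -/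
theorem surj (h : SHyp l Q α ρ u) {X : Subgroup Q} (hX : ∀ x ∈ X, ρ x ∈ X) {f : Q → K}
    (f1 : f 1 = 0) (f2 : ∀ x ∈ X, f (ρ x) = l * f x) {x : Q} (hx : x ∈ X) (h0 : f x ≠ 0) (t : K) :
    ∃ y ∈ X, f y = t := by
  rcases eq_or_ne t 0 with rfl | ht
  · exact ⟨1, one_mem _, f1⟩
  obtain ⟨k, hk⟩ := h.hl (t / f x) (div_ne_zero ht h0)
  refine ⟨(ρ ^ k) x, pow_apply_mem hX k x hx, ?_⟩
  rw [← div_mul_cancel₀ t h0, ← hk]
  clear hk
  induction k with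
  | zero => simp
  | succ k ih =>
    rw [pow_succ', MulAut.mul_apply, f2 _ (pow_apply_mem hX k x hx), ih, pow_succ', mul_assoc]

variable [Finite Q]

theorem cen (h : SHyp l Q α ρ u) (s : K) (x : Q) : x * u s = u s * x := by
  have : Nontrivial Q := h.inj.nontrivial
  obtain ⟨z, h1, hc, h2⟩ := exists_fixed_central h.pg h.inv
  obtain ⟨t, rfl⟩ := (h.fix z).mp h2
  have ht : t ≠ 0 := by rintro rfl; exact h1 h.u0
  rcases eq_or_ne s 0 with rfl | hs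
  · simp [h.u0]
  obtain ⟨k, hk⟩ := h.hl (s / t) (div_ne_zero hs ht)
  obtain ⟨x, rfl⟩ := (ρ ^ k).surjective x
  rw [← div_mul_cancel₀ s ht, ← hk, ← h.pow_u, ← map_mul, ← map_mul, mem_center_iff.mp hc]

theorem conj_u (h : SHyp l Q α ρ u) (s : K) (x : Q) : x⁻¹ * u s * x = u s := by
  rw [h.cen]; simp

theorem quot (h : SHyp l Q α ρ u) (hne : ∃ x, ∀ t, u t ≠ x) :
    ∃ (R : Type u) (_ : Group R) (_ : Finite R) (π : Q →* R) (α' ρ' : MulAut R) (u' : K → R),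
      SHyp l R α' ρ' u' ∧ Function.Surjective π ∧ (∀ x, π x = 1 ↔ ∃ t, u t = x) ∧
      (∀ x, α' (π x) = π (α x)) ∧ (∀ x, ρ' (π x) = π (ρ x)) ∧
      (∀ x t, π x = u' t ↔ dl α x = u t) ∧ Nat.card Q = Nat.card R * Nat.card K := by
  let C : Subgroup Q :=
    { carrier := {x | ∃ t, u t = x}
      one_mem' := ⟨0, h.u0⟩
      mul_mem' := by rintro _ _ ⟨s, rfl⟩ ⟨t, rfl⟩; exact ⟨s + t, h.add s t⟩
      inv_mem' := by rintro _ ⟨s, rfl⟩; exact ⟨s, (h.uinv s).symm⟩ }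
  have hn : C.Normal := ⟨by rintro _ ⟨s, rfl⟩ g; exact ⟨s, by rw [h.cen]; simp⟩⟩
  have hmap : ∀ φ : MulAut Q, (∀ x ∈ C, φ x ∈ C) → C.map φ.toMonoidHom = C := fun φ hφ =>
    eq_of_le_of_card_ge (by rintro _ ⟨x, hx, rfl⟩; exact hφ x hx)
      (card_map_of_injective φ.injective).ge
  let α' : MulAut (Q ⧸ C) := QuotientGroup.congr C C α (hmap α (by
    rintro _ ⟨s, rfl⟩; exact ⟨s, ((h.fix _).mpr ⟨s, rfl⟩).symm⟩))
  let ρ' : MulAut (Q ⧸ C) := QuotientGroup.congr C C ρ (hmap ρ (by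
    rintro _ ⟨s, rfl⟩; exact ⟨_, (h.hρ s).symm⟩))
  let π := QuotientGroup.mk' C
  have hπ : Function.Surjective π := QuotientGroup.mk'_surjective C
  have h1 : ∀ x, π x = 1 ↔ ∃ t, u t = x := fun x => QuotientGroup.eq_one_iff x
  have hα : ∀ x, α' (π x) = π (α x) := fun _ => rfl
  have hρ : ∀ x, ρ' (π x) = π (ρ x) := fun _ => rfl
  have hπd : ∀ x y, π x = π y ↔ dl α x = dl α y := by
    intro x y
    rw [← mul_inv_eq_one, ← map_inv, ← map_mul, h1, ← h.fix, map_mul, map_inv, dl, dl]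
    constructor <;> intro e
    · calc x⁻¹ * α x = x⁻¹ * (α x * (α y)⁻¹) * α y := by group
        _ = _ := by rw [e]; group
    · calc α x * (α y)⁻¹ = x * (x⁻¹ * α x) * (α y)⁻¹ := by group
        _ = _ := by rw [e]; group
  have hfix : ∀ x, α' (π x) = π x ↔ ∃ t, u t = dl α x := fun x => by
    rw [← dl_eq_one, ← h1, dl, dl, hα, map_mul, map_inv]
  have hinv : ∀ x, α' (α' x) = x := fun x => by
    obtain ⟨x, rfl⟩ := hπ x
    rw [hα, hα, h.inv]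
  obtain ⟨x0, hx0⟩ := hne
  have : Nontrivial (Q ⧸ C) := ⟨π x0, 1, fun e => (h1 _).mp e |>.elim hx0⟩
  obtain ⟨z, hz1, -, hz2⟩ := exists_fixed_central (h.pg.to_quotient C) hinv
  obtain ⟨z, rfl⟩ := hπ z
  obtain ⟨s, hs⟩ := (hfix z).mp hz2
  have hs0 : s ≠ 0 := by
    rintro rfl
    exact hz1 ((h1 z).mpr ((h.fix z).mp (dl_eq_one.mp (hs.symm.trans h.u0))))
  have hsurj : ∀ t, ∃ x, dl α x = u t := by
    intro t
    rcases eq_or_ne t 0 with rfl | ht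
    · exact ⟨1, by simp [dl, h.u0]⟩
    obtain ⟨k, hk⟩ := h.hl (t / s) (div_ne_zero ht hs0)
    exact ⟨(ρ ^ k) z, by rw [h.dl_pow, ← hs, h.pow_u, hk, div_mul_cancel₀ t hs0]⟩
  choose v hv using hsurj
  have hu' : ∀ x t, π x = π (v t) ↔ dl α x = u t := fun x t => by rw [hπd, hv]
  refine ⟨Q ⧸ C, inferInstance, inferInstance, π, α', ρ', fun t => π (v t),
    ⟨h.two, h.hl, h.pg.to_quotient C, hinv, fun x => ?_, ?_, fun s t e => ?_, fun s t => ?_,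
      fun x => ?_, fun t => ?_⟩, hπ, h1, hα, hρ, hu', ?_⟩
  · obtain ⟨x, rfl⟩ := hπ x
    rw [hρ, hα, hα, hρ, h.comm]
  · have : ∀ (k : ℕ) x, (ρ' ^ k) (π x) = π ((ρ ^ k) x) := by
      intro k x
      induction k with
      | zero => simp
      | succ k ih => rw [pow_succ', MulAut.mul_apply, ih, hρ, pow_succ', MulAut.mul_apply]
    ext x
    obtain ⟨x, rfl⟩ := hπ x
    rw [this, h.ord]; rfl
  · exact h.inj (by rw [← hv, (hu' _ _).mp e])
  · rw [← map_mul, eq_comm, hu', dl_mul, hv, hv, h.conj_u, h.add]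
  · obtain ⟨x, rfl⟩ := hπ x
    rw [hfix]
    exact exists_congr fun t => by rw [eq_comm, ← hu', eq_comm]
  · rw [hρ, hu', h.dl_ρ, hv, h.hρ]
  · rw [card_eq_card_quotient_mul_card_subgroup C]
    congr 1
    exact (Nat.card_eq_of_bijective (fun t => (⟨u t, t, rfl⟩ : C))
      ⟨fun s t e => h.inj (congrArg Subtype.val e), by rintro ⟨_, t, rfl⟩; exact ⟨t, rfl⟩⟩).symm

theorem exists_dl (h : SHyp l Q α ρ u) (hne : ∃ x, ∀ t, u t ≠ x) (t : K) : ∃ x, dl α x = u t := by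
  obtain ⟨R, _, _, π, α', ρ', u', -, h1, -, -, -, h2, -⟩ := h.quot hne
  obtain ⟨x, hx⟩ := h1 (u' t)
  exact ⟨x, (h2 x t).mp hx⟩

variable [Finite K]

/-- a class two subgroup with a Singer quotient is abelian -/
theorem comm_of_coord (h : SHyp l Q α ρ u) (X : Subgroup Q) (hX : ∀ x ∈ X, ρ x ∈ X) (f : Q → K)
    (f1 : ∀ x ∈ X, ∀ x' ∈ X, f (x * x') = f x + f x') (f2 : ∀ x ∈ X, f (ρ x) = l * f x)
    (hc : ∀ x ∈ X, ∀ y ∈ X, ∃ t, u t = ⁅x, y⁆)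
    (f0 : ∀ x ∈ X, f x = 0 → ∀ y ∈ X, x * y = y * x) : ∀ x ∈ X, ∀ y ∈ X, x * y = y * x := by
  by_cases h0 : ∀ x ∈ X, f x = 0
  · exact fun x hx => f0 x hx (h0 x hx)
  push Not at h0
  obtain ⟨x0, hx0, h0⟩ := h0
  have hs := h.surj hX (by simpa using f1 1 (one_mem _) 1 (one_mem _)) f2 hx0 h0
  have hκ := Function.leftInverse_invFun h.inj
  have hb : ∀ x ∈ X, ∀ y ∈ X, ⁅x, y⁆ = u (Function.invFun u ⁅x, y⁆) := fun x hx y hy =>
    (Function.invFun_eq (hc x hx y hy)).symm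
  have h1 : Function.invFun u 1 = 0 := by rw [← h.u0, hκ]
  obtain ⟨c, hc'⟩ := bil_sq h.two h.hl X X ρ hX hX f f (fun x y => Function.invFun u ⁅x, y⁆)
    f1 f1 f2 f2
    (fun x hx x' hx' y hy => by
      rw [commutatorElement_mul_left_eq_conj_mul, hb x' hx' y hy, hb x hx y hy, h.cen _ x,
        mul_inv_cancel_right, ← h.add, hκ, hκ, hκ, add_comm])
    (fun x hx y hy y' hy' => by
      rw [commutatorElement_mul_right_eq_mul_conj, hb x hx y' hy', hb x hx y hy, mul_assoc _ y,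
        h.cen _ y, ← mul_assoc, mul_inv_cancel_right, ← h.add, hκ, hκ, hκ])
    (fun x hx y hy => by rw [← map_commutatorElement, hb x hx y hy, h.hρ, hκ, hκ])
    (fun x hx e y hy => by rw [commutatorElement_eq_one_iff_mul_comm.mpr (f0 x hx e y hy), h1])
    (fun y hy e x hx => by
      rw [commutatorElement_eq_one_iff_mul_comm.mpr (f0 y hy e x hx).symm, h1]) hs hs
  have h2 := hc' x0 hx0 x0 hx0
  rw [commutatorElement_self, h1] at h2
  have h3 : c = 0 := by simpa [h0] using h2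
  intro x hx y hy
  have h4 := hc' x hx y hy
  rw [h3, zero_mul, zero_mul, mul_self_eq_zero] at h4
  rw [← commutatorElement_eq_one_iff_mul_comm, hb x hx y hy, h4, h.u0]

/-- the subgroup `A` with `A / C = C_{Q/C}(α)` -/
def A (h : SHyp l Q α ρ u) : Subgroup Q where
  carrier := {x | ∃ t, u t = dl α x}
  one_mem' := ⟨0, by simp [dl, h.u0]⟩
  mul_mem' := by
    rintro x y ⟨s, hs⟩ ⟨t, ht⟩
    exact ⟨s + t, by rw [dl_mul, ← hs, ← ht, h.conj_u, h.add]⟩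
  inv_mem' := by
    rintro x ⟨s, hs⟩
    have := dl_mul (α := α) x x⁻¹
    rw [mul_inv_cancel, ← hs, h.conj_u, dl, map_one, mul_one, inv_one, eq_comm,
      mul_eq_one_iff_inv_eq, h.uinv] at this
    exact ⟨s, this⟩

theorem A_comm (h : SHyp l Q α ρ u) : ∀ x ∈ h.A, ∀ y ∈ h.A, x * y = y * x := by
  have hκ := Function.leftInverse_invFun h.inj
  refine h.comm_of_coord h.A ?_ (fun x => Function.invFun u (dl α x)) ?_ ?_ ?_ ?_
  · rintro x ⟨s, hs⟩; exact ⟨l * s, by rw [h.dl_ρ, ← hs, h.hρ]⟩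
  · rintro x ⟨s, hs⟩ y ⟨t, ht⟩
    rw [dl_mul, ← hs, ← ht, h.conj_u, ← h.add, hκ, hκ, hκ]
  · rintro x ⟨s, hs⟩; rw [h.dl_ρ, ← hs, h.hρ, hκ, hκ]
  · rintro x ⟨s, hs⟩ y ⟨t, ht⟩
    have e1 : α x = x * u s := by rw [hs, dl]; simp
    have e2 : α y = y * u t := by rw [ht, dl]; simp
    rw [← h.fix, map_commutatorElement, e1, e2, commutatorElement_def, commutatorElement_def,
      mul_inv_rev, mul_inv_rev, h.uinv, h.uinv]
    calc _ = x * (u s * y) * (u t * u s * x⁻¹) * u t * y⁻¹ := by group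
      _ = x * y * (u s * u s) * x⁻¹ * (u t * u t) * y⁻¹ := by
        rw [← h.cen s y, h.cen s (u t), mul_assoc (u s), ← h.cen t x⁻¹]; group
      _ = _ := by rw [h.u2, h.u2]; group
  · rintro x ⟨s, hs⟩ e y -
    rw [← hs, hκ] at e
    rw [e, h.u0, eq_comm, dl_eq_one, h.fix] at hs
    obtain ⟨t, rfl⟩ := hs
    exact (h.cen t y).symm

/-- the relation of the field holds on an elementary abelian group of order `q²` -/
theorem rel_of_elem (h : SHyp l Q α ρ u) (h1 : ∀ x : Q, x ^ 2 = 1) (h2 : ∀ x, x ∈ h.A)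
    {i j : ℕ} (hij : l ^ i + 1 = l ^ j) (x : Q) : (ρ ^ j) x = (ρ ^ i) x * x := by
  have := charP_two_of h.two
  have := Fintype.ofFinite K
  obtain ⟨⟨n, hn0⟩, -, hn⟩ := FiniteField.card K 2
  obtain ⟨n, rfl⟩ : ∃ m, n = m + 1 := ⟨n - 1, by omega⟩
  let _ : CommGroup Q := ⟨fun a b => h.A_comm a (h2 a) b (h2 b)⟩
  have hr : ∀ i, ρ ^ (i * 2 ^ n) * ρ ^ (i * 2 ^ n) = ρ ^ i := by
    intro i
    have e : i * 2 ^ n + i * 2 ^ n = (Nat.card K - 1) * i + i := by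
      rw [Nat.card_eq_fintype_card, hn]
      have : 1 ≤ 2 ^ n := Nat.one_le_two_pow
      simp only [PNat.mk_coe, pow_succ]
      zify [show 1 ≤ 2 ^ n * 2 by omega]
      ring
    rw [← pow_add, e, pow_add, pow_mul, h.ord, one_pow, one_mul]
  have hl' : l ^ (j * 2 ^ n) + l ^ (i * 2 ^ n) + 1 = 0 := by
    rw [pow_mul, pow_mul, ← hij, add_pow_char_pow, one_pow]
    have := h.two
    grind
  set a := ρ ^ (j * 2 ^ n) with ha
  set b := ρ ^ (i * 2 ^ n) with hb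
  have hab : ∀ y, a (b y) = b (a y) := fun y => by
    rw [← MulAut.mul_apply, ← MulAut.mul_apply, ha, hb, ← pow_add, ← pow_add, add_comm]
  have e1 : ∀ t, a (u t) * b (u t) * u t = 1 := fun t => by
    rw [ha, hb, h.pow_u, h.pow_u, ← h.add, ← h.add, ← h.u0]
    congr 1
    linear_combination t * hl'
  have e2 : ∃ t, u t = a x * b x * x := by
    obtain ⟨s, hs⟩ := h2 x
    rw [← h.fix, ← dl_eq_one, ← e1 s, hs, ha, hb, ← h.dl_pow, ← h.dl_pow]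
    simp only [dl, map_mul, mul_inv_rev, mul_assoc, mul_comm, mul_left_comm]
  obtain ⟨t, ht⟩ := e2
  have e3 := e1 t
  have e4 : ∀ y : Q, y * y = 1 := fun y => by rw [← pow_two, h1]
  rw [ht] at e3
  simp only [map_mul, hab] at e3
  rw [← hr i, ← hr j, MulAut.mul_apply, MulAut.mul_apply, ← ha, ← hb, ← mul_inv_eq_one,
    inv_eq_of_mul_eq_one_right (e4 _), ← e3]
  calc _ = a (a x) * (b (b x) * x) * ((b (a x) * b (a x)) * (a x * a x) * (b x * b x)) := by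
        simp only [e4, mul_one]
    _ = _ := by simp only [mul_comm, mul_left_comm]

/-- the three possible types -/
def Types (h : SHyp l Q α ρ u) : Prop :=
  (IsMulCommutative Q ∧ ∃ f : Q → K, (∀ x y, f (x * y) = f x + f y) ∧ (∀ x, f (ρ x) = l * f x) ∧
    ∀ x, f x = 0 → ∃ y, x = y ^ 2) ∨
  ((∀ x : Q, x ^ 2 = 1) ∧ (∀ x, x ∈ h.A) ∧ (∃ x, ∀ t, u t ≠ x) ∧ Nat.card Q = Nat.card K ^ 2) ∨
  (¬ IsMulCommutative Q ∧ (∀ x, ∃ s, x ^ 2 = u s) ∧ (∀ x, dl α x ∈ h.A) ∧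
    Nat.card Q = Nat.card K ^ 3 ∧
    ∀ i j : ℕ, l ^ i + 1 = l ^ j → ∀ x, ∃ s, (ρ ^ j) x = (ρ ^ i) x * x * u s)

theorem not_four (h : SHyp l Q α ρ u) (hK : 2 < Nat.card K) (M : Subgroup Q)
    (hM : ∀ x, x ∈ M ↔ dl α x ∈ h.A) (h1 : ∀ x : Q, x ^ 2 ∈ h.A) (h2 : ∀ x, dl α x ∈ M)
    (h3 : ∀ x ∈ M, ∀ y ∈ M, ∃ t, u t = ⁅x, y⁆) (h4 : ∀ a ∈ h.A, ∀ x, ∃ t, x⁻¹ * a * x = a * u t)
    (x0 : Q) : x0 ∈ M := by
  by_contra hx0
  have two := h.two
  have hκ := Function.leftInverse_invFun h.inj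
  set κ := Function.invFun u
  have hAM : h.A ≤ M := by
    rintro x ⟨s, hs⟩
    exact (hM x).mpr ⟨0, by rw [← hs, h.dl_u, h.u0]⟩
  have hρA : ∀ x ∈ h.A, ρ x ∈ h.A := by
    rintro x ⟨s, hs⟩; exact ⟨l * s, by rw [h.dl_ρ, ← hs, h.hρ]⟩
  have hρM : ∀ x ∈ M, ρ x ∈ M := fun x hx => (hM _).mpr (h.dl_ρ x ▸ hρA _ ((hM x).mp hx))
  have huA : ∀ t, u t ∈ h.A := fun t => ⟨0, by rw [h.dl_u, h.u0]⟩
  have hcomm : ∀ x y : Q, ⁅x, y⁆ ∈ h.A := by
    intro x y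
    have : ⁅x, y⁆ = x ^ 2 * (x⁻¹ * y) ^ 2 * (y⁻¹) ^ 2 := by
      rw [commutatorElement_def, pow_two, pow_two, pow_two]; group
    rw [this]
    exact mul_mem (mul_mem (h1 _) (h1 _)) (h1 _)
  -- coordinates
  obtain ⟨k2, hk2⟩ : ∃ k2 : Q → K, ∀ x, k2 x = κ (dl α x) := ⟨_, fun _ => rfl⟩
  have k2u : ∀ x ∈ h.A, dl α x = u (k2 x) := by
    rintro x ⟨s, hs⟩; rw [hk2, ← hs, hκ]
  have k2m : ∀ x ∈ h.A, ∀ y ∈ h.A, k2 (x * y) = k2 x + k2 y := fun x hx y hy => h.inj (by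
    rw [← k2u _ (mul_mem hx hy), dl_mul, k2u x hx, k2u y hy, h.conj_u, h.add])
  have k2ρ : ∀ x ∈ h.A, k2 (ρ x) = l * k2 x := fun x hx => h.inj (by
    rw [← k2u _ (hρA x hx), h.dl_ρ, k2u x hx, h.hρ])
  have k20 : ∀ t, k2 (u t) = 0 := fun t => by rw [hk2, h.dl_u, ← h.u0, hκ]
  have k2z : ∀ x ∈ h.A, k2 x = 0 → ∃ t, u t = x := fun x hx e => by
    rw [← h.fix, ← dl_eq_one, k2u x hx, e, h.u0]
  have k2c : ∀ a ∈ h.A, ∀ x, x⁻¹ * a * x ∈ h.A ∧ k2 (x⁻¹ * a * x) = k2 a := fun a ha x => by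
    obtain ⟨t, ht⟩ := h4 a ha x
    rw [ht, k2m _ ha _ (huA t), k20, add_zero]
    exact ⟨mul_mem ha (huA t), rfl⟩
  obtain ⟨k3, hk3⟩ : ∃ k3 : Q → K, ∀ x, k3 x = k2 (dl α x) := ⟨_, fun _ => rfl⟩
  have k3m : ∀ x ∈ M, ∀ y ∈ M, k3 (x * y) = k3 x + k3 y := fun x hx y hy => by
    rw [hk3, hk3, hk3, dl_mul, k2m _ (k2c _ ((hM x).mp hx) y).1 _ ((hM y).mp hy),
      (k2c _ ((hM x).mp hx) y).2]
  have k3ρ : ∀ x ∈ M, k3 (ρ x) = l * k3 x := fun x hx => by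
    rw [hk3, hk3, h.dl_ρ, k2ρ _ ((hM x).mp hx)]
  have k3z : ∀ x ∈ M, k3 x = 0 ↔ x ∈ h.A := fun x hx =>
    ⟨fun e => k2z _ ((hM x).mp hx) (hk3 x ▸ e), fun ⟨s, hs⟩ => by rw [hk3, ← hs, k20]⟩
  have k3c : ∀ m ∈ M, ∀ x, x⁻¹ * m * x ∈ M ∧ k3 (x⁻¹ * m * x) = k3 m := fun m hm x => by
    have e : x⁻¹ * m * x = m * ⁅m⁻¹, x⁻¹⁆ := by rw [commutatorElement_def]; group
    rw [e, k3m _ hm _ (hAM (hcomm _ _)), (k3z _ (hAM (hcomm _ _))).mpr (hcomm _ _), add_zero]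
    exact ⟨mul_mem hm (hAM (hcomm _ _)), rfl⟩
  obtain ⟨k4, hk4⟩ : ∃ k4 : Q → K, ∀ x, k4 x = k3 (dl α x) := ⟨_, fun _ => rfl⟩
  have k4m : ∀ x y, k4 (x * y) = k4 x + k4 y := fun x y => by
    rw [hk4, hk4, hk4, dl_mul, k3m _ (k3c _ (h2 x) y).1 _ (h2 y), (k3c _ (h2 x) y).2]
  have k4ρ : ∀ x, k4 (ρ x) = l * k4 x := fun x => by rw [hk4, hk4, h.dl_ρ, k3ρ _ (h2 x)]
  have k4z : ∀ x, k4 x = 0 ↔ x ∈ M := fun x => by rw [hk4, k3z _ (h2 x), hM]
  have k4s : ∀ t, ∃ x, k4 x = t := fun t => by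
    obtain ⟨x, -, hx⟩ := h.surj (X := ⊤) (fun _ _ => trivial) ((k4z 1).mpr (one_mem _))
      (fun x _ => k4ρ x) (mem_top x0) (fun e => hx0 ((k4z x0).mp e)) t
    exact ⟨x, hx⟩
  -- elements inverted by `α`
  have hinv : ∀ m ∈ M, α m = m⁻¹ → k2 (m ^ 2) = k3 m ∧ (m ^ 2) ^ 2 = u (k3 m) := by
    intro m hm e
    have e1 : α (m ^ 2) = (m ^ 2)⁻¹ := by rw [map_pow, e, inv_pow]
    have e2 : k2 (m ^ 2) = k3 m := by
      have := k2m _ (h1 m) _ (inv_mem (h1 m))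
      rw [mul_inv_cancel, ← h.u0, k20] at this
      rw [hk3, dl_of_inv e]
      linear_combination (-1 : K) * this - k2 (m ^ 2)⁻¹ * two
    refine ⟨e2, ?_⟩
    rw [← e2, ← h.uinv, ← k2u _ (h1 m), dl_of_inv e1, inv_inv]
  have hA2 : ∀ a ∈ h.A, ∃ x t, a = dl α x ^ 2 * u t := by
    intro a ha
    obtain ⟨x, hx⟩ := k4s (k2 a)
    have e1 := (hinv _ (h2 x) (apply_dl h.inv x)).1
    have e2 := k2m _ (h1 (dl α x)) _ (mul_mem (inv_mem (h1 (dl α x))) ha)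
    rw [mul_inv_cancel_left, e1, ← hk4, hx, left_eq_add] at e2
    obtain ⟨t, ht⟩ := k2z _ (mul_mem (inv_mem (h1 (dl α x))) ha) e2
    exact ⟨x, t, by rw [ht, mul_inv_cancel_left]⟩
  have hMc : ∀ x ∈ M, ∀ y ∈ M, x * y = y * x := by
    refine h.comm_of_coord M hρM k3 k3m k3ρ h3 fun a ha e y hy => ?_
    obtain ⟨x, t, rfl⟩ := hA2 a ((k3z a ha).mp e)
    obtain ⟨s, hs⟩ := h3 _ (h2 x) y hy
    have : ⁅dl α x ^ 2, y⁆ = 1 := by
      rw [H7.commutator_pow_left (by rw [← hs]; exact h.cen s _), ← hs, pow_two, h.u2]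
    rw [mul_assoc, ← h.cen, ← mul_assoc, commutatorElement_eq_one_iff_mul_comm.mp this, mul_assoc]
  have hαA : ∀ a ∈ h.A, α a = a⁻¹ := by
    intro a ha
    obtain ⟨x, t, rfl⟩ := hA2 a ha
    rw [map_mul, map_pow, apply_dl h.inv, (h.fix _).mpr ⟨t, rfl⟩, mul_inv_rev, h.uinv, h.cen,
      inv_pow]
  have hαM : ∀ m ∈ M, α m = m⁻¹ := by
    intro m hm
    obtain ⟨x, hx⟩ := k4s (k3 m)
    have e2 := k3m _ (h2 x) _ (mul_mem (inv_mem (h2 x)) hm)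
    rw [mul_inv_cancel_left, ← hk4, hx, left_eq_add, k3z _ (mul_mem (inv_mem (h2 x)) hm)] at e2
    have e3 := hαA _ e2
    rw [map_mul, map_inv, apply_dl h.inv, inv_inv, mul_inv_rev, inv_inv,
      hMc _ (inv_mem hm) _ (h2 x), mul_right_inj] at e3
    exact e3
  have hsqA : ∀ a ∈ h.A, ∃ b ∈ M, a = b ^ 2 := by
    intro a ha
    obtain ⟨x, t, rfl⟩ := hA2 a ha
    obtain ⟨y, rfl⟩ := k4s t
    refine ⟨dl α x * dl α y ^ 2, mul_mem (h2 x) (pow_mem (h2 y) 2), ?_⟩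
    rw [(show Commute (dl α x) (dl α y ^ 2) from hMc _ (h2 x) _ (pow_mem (h2 y) 2)).mul_pow,
      (hinv _ (h2 y) (apply_dl h.inv y)).2, hk4]
  -- the action of `Q` on `M`
  obtain ⟨D, hD⟩ : ∃ D : Q → Q → Q, ∀ x a, D x a = a⁻¹ * (x⁻¹ * a * x) := ⟨_, fun _ _ => rfl⟩
  have DA : ∀ x a, D x a ∈ h.A := fun x a => by
    have : D x a = ⁅a⁻¹, x⁻¹⁆ := by rw [hD, commutatorElement_def]; group
    exact this ▸ hcomm _ _
  have Dm : ∀ x, ∀ a ∈ M, ∀ b ∈ M, D x (a * b) = D x a * D x b := fun x a ha b hb => by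
    have := hMc _ (hAM (DA x a)) _ (inv_mem hb)
    rw [hD x b, ← mul_assoc, this, hD, hD]; group
  obtain ⟨c, hc⟩ := bil_sq two h.hl ⊤ M ρ (fun _ _ => trivial) hρM k4 k3 (fun x a => k2 (D x a))
    (fun x _ y _ => k4m x y) k3m (fun x _ => k4ρ x) k3ρ
    (fun x _ y _ a _ => by
      have : D (x * y) a = D y a * (y⁻¹ * D x a * y) := by rw [hD, hD, hD]; group
      rw [this, k2m _ (DA _ _) _ (k2c _ (DA _ _) y).1, (k2c _ (DA _ _) y).2, add_comm])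
    (fun x _ a ha b hb => by rw [Dm x a ha b hb, k2m _ (DA _ _) _ (DA _ _)])
    (fun x _ a _ => by
      have : D (ρ x) (ρ a) = ρ (D x a) := by simp [hD]
      rw [this, k2ρ _ (DA _ _)])
    (fun x _ e a ha => by
      have : D x a = u 0 := by
        rw [hD, h.u0, hMc _ (inv_mem ((k4z x).mp e)) a ha]; group
      rw [this, k20])
    (fun a ha e x _ => by
      obtain ⟨t, ht⟩ := h4 a ((k3z a ha).mp e) x
      rw [hD, ht, inv_mul_cancel_left, k20])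
    (fun t => (k4s t).imp fun _ h => ⟨trivial, h⟩)
    (fun t => by obtain ⟨x, rfl⟩ := k4s t; exact ⟨_, h2 x, (hk4 x).symm⟩)
  have hk0 : k4 x0 ≠ 0 := fun e => hx0 ((k4z x0).mp e)
  have hc0 : c ≠ 0 := by
    rintro rfl
    have e1 := hc x0 trivial _ (h2 x0)
    rw [zero_mul, zero_mul, mul_self_eq_zero] at e1
    have e2 : D x0 (dl α x0) * dl α x0 ^ 2 = dl α (x0 ^ 2) := by
      rw [pow_two x0, dl_mul, hMc _ (hAM (DA _ _)) _ (pow_mem (h2 x0) 2), hD, pow_two,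
        ← hMc _ (h2 x0) _ (k3c _ (h2 x0) x0).1]
      group
    have e3 := k2m _ (DA x0 (dl α x0)) _ (h1 (dl α x0))
    rw [e2, k2u _ (h1 x0), k20, e1, (hinv _ (h2 x0) (hαM _ (h2 x0))).1, zero_add] at e3
    exact hk0 (hk4 x0 ▸ e3.symm)
  have key : ∀ a ∈ M, k2 (D x0 a) = k3 a := by
    intro a ha
    obtain ⟨b, hb, e⟩ := hsqA _ (DA x0 a)
    have e1 : D x0 a * D x0 (a * D x0 a) = 1 := by
      have := hMc _ (hAM (h1 x0)) a ha
      rw [pow_two] at this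
      rw [hD x0 (a * _), hD x0 a]
      calc _ = a⁻¹ * x0⁻¹ * x0⁻¹ * (a * (x0 * x0)) := by group
        _ = a⁻¹ * x0⁻¹ * x0⁻¹ * (x0 * x0 * a) := by rw [this]
        _ = 1 := by group
    have e2 : D x0 (a * b) ^ 2 = 1 := by
      rw [← e1, Dm x0 a ha b hb, Dm x0 a ha _ (hAM (DA _ _)), e, pow_two b, Dm x0 b hb b hb,
        ← pow_two b, ← e, (show Commute (D x0 a) (D x0 b) from
          hMc _ (hAM (DA _ _)) _ (hAM (DA _ _))).mul_pow, pow_two, pow_two, mul_assoc]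
    have e3 : k2 (D x0 (a * b)) = 0 := by
      rw [hk2, dl_of_inv (hαA _ (DA _ _)), e2, inv_one, ← h.u0, hκ]
    have e4 := hc x0 trivial _ (mul_mem ha hb)
    rw [e3, k3m a ha b hb] at e4
    have e5 : k3 a + k3 b = 0 := by simpa [hc0, hk0] using e4
    rw [e, (hinv b hb (hαM b hb)).1]
    linear_combination e5 - k3 a * two
  obtain ⟨t, ht0, ht⟩ : ∃ t : K, t ≠ 0 ∧ t ≠ c * k4 x0 := by
    by_contra hne
    push Not at hne
    have : (Set.univ : Set K) ⊆ {0, c * k4 x0} := fun t _ => (eq_or_ne t 0).imp id (hne t)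
    have h5 := (Set.ncard_le_ncard this).trans (Set.ncard_insert_le _ _)
    rw [Set.ncard_univ, Set.ncard_singleton] at h5
    omega
  obtain ⟨x, rfl⟩ := k4s t
  have e := hc x0 trivial _ (h2 x)
  rw [key _ (h2 x), ← hk4] at e
  exact ht (mul_right_cancel₀ ht0 e)

theorem types (hK : 2 < Nat.card K) (n : ℕ) : ∀ (Q : Type u) [Group Q] [Finite Q]
    (α ρ : MulAut Q) (u : K → Q) (h : SHyp l Q α ρ u), Nat.card Q = n → h.Types := by
  induction n using Nat.strong_induction_on with | _ n ih => ?_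
  intro Q _ _ α ρ u h hn
  have hκ := Function.leftInverse_invFun h.inj
  by_cases hne : ∀ x, ∃ t, u t = x
  · refine Or.inl ⟨⟨⟨fun x y => ?_⟩⟩, Function.invFun u, fun x y => ?_, fun x => ?_, fun x e => ?_⟩
    · obtain ⟨t, rfl⟩ := hne y; exact h.cen t x
    · obtain ⟨s, rfl⟩ := hne x
      obtain ⟨t, rfl⟩ := hne y
      rw [← h.add, hκ, hκ, hκ]
    · obtain ⟨s, rfl⟩ := hne x; rw [h.hρ, hκ, hκ]
    · obtain ⟨s, rfl⟩ := hne x
      rw [hκ] at e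
      exact ⟨1, by rw [e, h.u0, one_pow]⟩
  push Not at hne
  obtain ⟨R, _, _, π, α', ρ', u', h', hπ, h1, hα, hρ, hu', hc⟩ := h.quot hne
  have hlt : Nat.card R < n := by
    rw [← hn, hc]; exact lt_mul_of_one_lt_right Nat.card_pos (by omega)
  have hd : ∀ x, π (dl α x) = dl α' (π x) := fun x => by simp [dl, hα]
  have hA : ∀ x, x ∈ h.A ↔ ∃ t, u' t = π x := fun x =>
    exists_congr fun t => by rw [eq_comm, ← hu', eq_comm]
  have hcomm : ∀ x y, π x * π y = π y * π x → ∃ t, u t = ⁅x, y⁆ := fun x y e => by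
    rw [← h1, map_commutatorElement, commutatorElement_eq_one_iff_mul_comm, e]
  rcases ih _ hlt R α' ρ' u' h' rfl with ⟨c1, f, f1, f2, f3⟩ | ⟨c1, c2, c3, c4⟩ |
    ⟨c1, c2, c3, -, -⟩
  · have f4 : ∀ x, f (π x) = 0 → ∃ y t, x = y ^ 2 * u t := by
      intro x e
      obtain ⟨y, hy⟩ := f3 _ e
      obtain ⟨y, rfl⟩ := hπ y
      obtain ⟨t, ht⟩ := (h1 ((y ^ 2)⁻¹ * x)).mp (by rw [map_mul, hy]; simp)
      exact ⟨y, t, by rw [ht, mul_inv_cancel_left]⟩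
    have hQ : ∀ x y : Q, x * y = y * x := fun x y =>
      h.comm_of_coord ⊤ (fun _ _ => trivial) (fun x => f (π x))
        (fun x _ y _ => by rw [map_mul, f1]) (fun x _ => by rw [← hρ, f2])
        (fun x _ y _ => hcomm x y (c1.is_comm.comm _ _)) (fun x _ e y _ => by
          obtain ⟨z, t, rfl⟩ := f4 x e
          obtain ⟨s, hs⟩ := hcomm z y (c1.is_comm.comm _ _)
          have : ⁅z ^ 2, y⁆ = 1 := by
            rw [H7.commutator_pow_left (by rw [← hs]; exact h.cen s _), ← hs, pow_two, h.u2]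
          rw [mul_assoc, ← h.cen, ← mul_assoc, commutatorElement_eq_one_iff_mul_comm.mp this,
            mul_assoc]) x trivial y trivial
    by_cases hw : ∀ w ∈ h.A, w ^ 2 = 1
    · have hall : ∀ y, ∃ t, u' t = y := by
        by_contra hne'
        push Not at hne'
        obtain ⟨x, hx⟩ := h'.exists_dl hne' 1
        obtain ⟨x, rfl⟩ := hπ x
        have e1 := hw _ ((hA (dl α x)).mpr ⟨1, by rw [hd, hx]⟩)
        have e2 : α (dl α x) = dl α x := by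
          rw [apply_dl h.inv, inv_eq_iff_mul_eq_one, ← pow_two, e1]
        rw [h.fix, ← h1, hd, hx, ← h'.u0] at e2
        exact one_ne_zero (h'.inj e2)
      refine Or.inr (Or.inl ⟨fun x => hw x ((hA x).mpr (hall _)), fun x => (hA x).mpr (hall _),
        hne, ?_⟩)
      rw [hc, ← Nat.card_eq_of_bijective u' ⟨h'.inj, hall⟩, pow_two]
    · push Not at hw
      obtain ⟨w, hw, hw2⟩ := hw
      obtain ⟨t, ht⟩ := (hA w).mp hw
      obtain ⟨s, hs⟩ := (h1 (w ^ 2)).mp (by rw [map_pow, ← ht, pow_two, h'.u2])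
      have hs0 : s ≠ 0 := by rintro rfl; exact hw2 (hs ▸ h.u0)
      refine Or.inl ⟨⟨⟨hQ⟩⟩, fun x => f (π x), fun x y => by simp only [map_mul, f1],
        fun x => by simp only [← hρ, f2], fun x e => ?_⟩
      obtain ⟨y, r, rfl⟩ := f4 x e
      rcases eq_or_ne r 0 with rfl | hr
      · exact ⟨y, by rw [h.u0, mul_one]⟩
      obtain ⟨k, hk⟩ := h.hl (r / s) (div_ne_zero hr hs0)
      refine ⟨y * (ρ ^ k) w, ?_⟩
      rw [(show Commute y ((ρ ^ k) w) from hQ _ _).mul_pow, ← map_pow, ← hs, h.pow_u, hk,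
        div_mul_cancel₀ r hs0]
  · have e1 : ∀ x, ∃ s, x ^ 2 = u s := fun x =>
      ((h1 (x ^ 2)).mp (by rw [map_pow, c1])).imp fun _ h => h.symm
    refine Or.inr (Or.inr ⟨fun hQ => ?_, e1, fun x => (hA _).mpr (hd x ▸ c2 _), ?_,
      fun i j hij x => ?_⟩)
    · obtain ⟨x, hx⟩ := c3
      obtain ⟨x, rfl⟩ := hπ x
      obtain ⟨s, hs⟩ := e1 x
      have e2 := h.dl_u s
      rw [← hs, pow_two, dl_mul, hQ.is_comm.comm x⁻¹, inv_mul_cancel_right] at e2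
      have e3 : α (dl α x) = dl α x := by rw [apply_dl h.inv, inv_eq_iff_mul_eq_one, e2]
      obtain ⟨t, ht⟩ := (h.fix _).mp e3
      exact hx t ((hu' x t).mpr ht.symm).symm
    · rw [hc, c4, ← pow_succ]
    · have e2 : ∀ (k : ℕ) x, (ρ' ^ k) (π x) = π ((ρ ^ k) x) := by
        intro k x
        induction k with
        | zero => simp
        | succ k ih => rw [pow_succ', MulAut.mul_apply, ih, hρ, pow_succ', MulAut.mul_apply]
      obtain ⟨s, hs⟩ := (h1 (((ρ ^ i) x * x)⁻¹ * (ρ ^ j) x)).mp (by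
        rw [map_mul, map_inv, map_mul, ← e2, ← e2, h'.rel_of_elem c1 c2 hij, inv_mul_cancel])
      exact ⟨s, by rw [hs, mul_inv_cancel_left]⟩
  · exfalso
    have := h.not_four hK (h'.A.comap π) (fun x => by rw [hA, hd]; rfl)
      (fun x => (hA _).mpr ((c2 (π x)).imp fun s hs => by rw [map_pow, hs]))
      (fun x => by rw [mem_comap, hd]; exact c3 _)
      (fun x hx y hy => hcomm x y (h'.A_comm _ hx _ hy)) (fun a ha x => by
        obtain ⟨s, hs⟩ := (hA a).mp ha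
        obtain ⟨t, ht⟩ := (h1 (a⁻¹ * (x⁻¹ * a * x))).mp (by
          rw [map_mul, map_mul, map_mul, map_inv, map_inv, ← hs, h'.conj_u, inv_mul_cancel])
        exact ⟨t, by rw [ht, mul_inv_cancel_left]⟩)
    refine c1 ⟨⟨fun x y => ?_⟩⟩
    obtain ⟨x, rfl⟩ := hπ x
    obtain ⟨y, rfl⟩ := hπ y
    exact h'.A_comm _ (this x) _ (this y)

end SHyp

theorem sylow_of_equiv {F : Type} [Field F] [Fintype F] {n : ℕ} (hF : Fintype.card F = 4 ^ n)
    {H : Herm F} (hq : ∀ x, H.σ x = x ^ 2 ^ n) {Q : Type*} [Group Q]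
    (h : Nonempty (Q ≃* U3 H) ∨ Nonempty (Q ≃* Heis H.Kf)) :
    (∃ S : Sylow 2 (Cfsg.PSU 3 F (2 ^ n)), Nonempty (Q ≃* U3 H) ∧
        Nonempty (Q ≃* ↥(S : Subgroup (Cfsg.PSU 3 F (2 ^ n))))) ∨
      (∃ (F : Type) (_ : Field F) (_ : Fintype F), Fintype.card F = 2 ^ n ∧
        ∃ S : Sylow 2 (Matrix.ProjectiveSpecialLinearGroup (Fin 3) F),
          Nonempty (Q ≃* ↥(S : Subgroup (Matrix.ProjectiveSpecialLinearGroup (Fin 3) F)))) := by
  rcases h with ⟨⟨e⟩⟩ | ⟨⟨e⟩⟩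
  · obtain ⟨f⟩ := U3.nonempty_equiv_sylow_psu hq default
    exact Or.inl ⟨default, ⟨e⟩, ⟨e.trans f.symm⟩⟩
  · have := Fintype.ofFinite H.Kf
    have := charP_two_of H.two_Kf
    obtain ⟨f⟩ := Heis.nonempty_equiv_sylow_psl (F := H.Kf) (p := 2) default
    exact Or.inr ⟨H.Kf, inferInstance, inferInstance, by
      rw [← Nat.card_eq_fintype_card, H.card_Kf, card_K_eq H hF], default, ⟨e.trans f.symm⟩⟩

theorem exists_coords {Q K : Type*} [Group Q] [Finite Q] [Field K] [Finite K] (ρ : MulAut Q)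
    (C : Subgroup Q) (hc : ∀ a ∈ C, ∀ b ∈ C, a * b = b * a) (hρ : ∀ x ∈ C, ρ x ∈ C)
    (htr : ∀ x y : Q, x ∈ C → y ∈ C → x ≠ 1 → y ≠ 1 → ∃ k : ℕ, (ρ ^ k) x = y)
    (hK : Nat.card K = Nat.card C) :
    ∃ (u : K → Q) (l : K), Function.Injective u ∧ (∀ s t, u (s + t) = u s * u t) ∧
      (∀ x, x ∈ C ↔ ∃ t, u t = x) ∧ (∀ t, ρ (u t) = u (l * t)) ∧
      ∀ t : K, t ≠ 0 → ∃ k : ℕ, l ^ k = t := by
  let act : ℕ → C →* C := fun k =>
    ((ρ ^ k).toMonoidHom.comp C.subtype).codRestrict C fun x => pow_apply_mem hρ k _ x.2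
  obtain ⟨u, hu, u1, u2⟩ := H9.exists_field_coords (S := C)
    (fun a b => Subtype.ext (hc _ a.2 _ b.2)) act (fun i j a => Subtype.ext (by
      change (ρ ^ i) ((ρ ^ j) a) = (ρ ^ j) ((ρ ^ i) a)
      rw [← MulAut.mul_apply, ← MulAut.mul_apply, ← pow_add, ← pow_add, add_comm]))
    (fun a b ha hb => (htr a b a.2 b.2 (by simpa using ha) (by simpa using hb)).imp
      fun _ h => Subtype.ext h) hK
  obtain ⟨l, hl⟩ := u2 1
  have h1 : ∀ t, ρ (u t) = u (l * t) := fun t => by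
    rw [← hl]; simp [act]
  have h2 : ∀ (k : ℕ) t, (ρ ^ k) (u t) = u (l ^ k * t) := by
    intro k t
    induction k with
    | zero => simp
    | succ k ih => rw [pow_succ', MulAut.mul_apply, ih, h1, pow_succ', mul_assoc]
  have u0 : u 0 = 1 := map_zero_of_add u1
  have hinj : Function.Injective fun t => (u t : Q) := Subtype.val_injective.comp hu.1
  refine ⟨fun t => u t, l, hinj, fun s t => by simp [u1], fun x => ⟨fun hx => ?_, ?_⟩, h1,
    fun t ht => ?_⟩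
  · obtain ⟨t, ht⟩ := hu.2 ⟨x, hx⟩
    exact ⟨t, congrArg Subtype.val ht⟩
  · rintro ⟨t, rfl⟩; exact (u t).2
  · obtain ⟨k, hk⟩ := htr (u 1) (u t) (u 1).2 (u t).2
      (fun h => one_ne_zero (hu.1 ((Subtype.ext h).trans u0.symm)))
      (fun h => ht (hu.1 ((Subtype.ext h).trans u0.symm)))
    rw [h2, mul_one] at hk
    exact ⟨k, hinj hk⟩

theorem exists_herm_galois {n : ℕ} (hn : 1 ≤ n) : ∃ (F : Type) (_ : Field F) (_ : Fintype F)
    (H : Herm F), Fintype.card F = 4 ^ n ∧ (∀ x, H.σ x = x ^ 2 ^ n) ∧ Nat.card H.Kf = 2 ^ n := by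
  have := Fintype.ofFinite (GaloisField 2 (2 * n))
  have hF : Fintype.card (GaloisField 2 (2 * n)) = 4 ^ n := by
    rw [← Nat.card_eq_fintype_card, GaloisField.card 2 _ (by omega), pow_mul]; rfl
  obtain ⟨H, hq⟩ := exists_herm hn hF
  exact ⟨_, _, _, H, hF, hq, by rw [H.card_Kf, card_K_eq H hF]⟩

theorem singer_involution {Q : Type*} [Group Q] [Finite Q] (hQ : IsPGroup 2 Q)
    (hna : ¬ IsMulCommutative Q) (n : ℕ) (hn : 2 ≤ n) (α ρ : MulAut Q) (hα : orderOf α = 2)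
    (hρ : orderOf ρ = 2 ^ n - 1) (hc : Commute α ρ) (C : Subgroup Q)
    (hC : ∀ x : Q, x ∈ C ↔ α x = x)
    (hCE : Cfsg.IsElementaryAbelian 2 C ∧ Nat.card ↥C = 2 ^ n)
    (htr : ∀ x y : Q, x ∈ C → y ∈ C → x ≠ 1 → y ≠ 1 → ∃ k : ℕ, (ρ ^ k) x = y) :
    (∃ (F : Type) (_ : Field F) (_ : Fintype F), Fintype.card F = 4 ^ n ∧
        ∃ S : Sylow 2 (Cfsg.PSU 3 F (2 ^ n)),
          Nonempty (Q ≃* ↥(S : Subgroup (Cfsg.PSU 3 F (2 ^ n))))) ∨
      (∃ (F : Type) (_ : Field F) (_ : Fintype F), Fintype.card F = 2 ^ n ∧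
        ∃ S : Sylow 2 (Matrix.ProjectiveSpecialLinearGroup (Fin 3) F),
          Nonempty (Q ≃* ↥(S : Subgroup (Matrix.ProjectiveSpecialLinearGroup (Fin 3) F)))) := by
  obtain ⟨F, _, _, H, hF, hq, hK⟩ := exists_herm_galois (n := n) (by omega)
  have hαρ : ∀ x, α (ρ x) = ρ (α x) := fun x => DFunLike.congr_fun hc.eq x
  obtain ⟨u, l, u1, u2, u3, u4, u5⟩ := exists_coords (K := H.Kf) ρ C
    (fun a ha b hb => H6.EA.comm hCE.1 ha hb)
    (fun x hx => (hC _).mpr (by rw [hαρ, (hC x).mp hx])) htr (hK.trans hCE.2.symm)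
  have h : SHyp l Q α ρ u := ⟨H.two_Kf, u5, hQ, fun x => by
    rw [← MulAut.mul_apply, ← pow_two, ← hα, pow_orderOf_eq_one]; rfl, hαρ,
    by rw [hK, ← hρ, pow_orderOf_eq_one], u1, u2, fun x => by rw [← hC, u3], u4⟩
  have hK2 : 2 < Nat.card H.Kf := by
    rw [hK]; exact lt_of_lt_of_le (by norm_num) (Nat.pow_le_pow_right two_pos hn)
  rcases SHyp.types hK2 _ Q α ρ u h rfl with ⟨c1, -⟩ | ⟨-, c1, -⟩ | ⟨-, c1, -, c2, c3⟩
  · exact absurd c1 hna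
  · exact absurd ⟨⟨fun x y => h.A_comm x (c1 x) y (c1 y)⟩⟩ hna
  obtain ⟨act, ha⟩ := exists_fieldAct h.two u2 u1 h.cen c1 u4 u5 h.ord c3
  rcases sylow_of_equiv hF hq (ha.nonempty_equiv H c2 hna) with ⟨S, -, h⟩ | h
  · exact Or.inl ⟨F, _, _, hF, S, h⟩
  · exact Or.inr h

end H2
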