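import Mathlib
import Cfsg.Agent.H2.Singer

/-! Groups of order 64 admitting `S₃` with a fixed-point-free element of order three. -/

set_option autoImplicit false

namespace H2

open Subgroup
open scoped commutatorElement

variable {G : Type*} [Group G]

theorem D8_or_Q8 [Finite G] (hG : IsPGroup 2 G) (h8 : Nat.card G ≤ 8)
    (hna : ¬ IsMulCommutative G) :
    Nonempty (G ≃* DihedralGroup 4) ∨ Nonempty (G ≃* QuaternionGroup 2) := by
  obtain ⟨a, ha⟩ : ∃ a : G, a ^ 2 ≠ 1 := by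
    by_contra hne
    push Not at hne
    exact hna ⟨⟨fun a b => comm_of_mul_sq (by simp [hne])⟩⟩
  have hi : (zpowers a).index ∣ 2 := by
    obtain ⟨k, hk⟩ := IsPGroup.iff_orderOf.mp hG a
    obtain ⟨n, hn⟩ := hG.index (zpowers a)
    have h4 : 2 ≤ k := by
      by_contra hlt
      apply ha
      rw [← orderOf_dvd_iff_pow_eq_one, hk]
      interval_cases k <;> simp
    have h5 := (zpowers a).card_mul_index
    rw [Nat.card_zpowers, hk, hn, ← pow_add] at h5
    rw [← h5, show 8 = 2 ^ 3 from rfl, Nat.pow_le_pow_iff_right (by norm_num)] at h8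
    rw [hn]
    exact (pow_dvd_pow 2 (show n ≤ 1 by omega)).trans (by simp)
  rcases H7.cyclic_or_types_of_cyclic_index hG hi with h | ⟨n, hn, hc, a, b, ha, hb, h⟩
  · exact absurd h hna
  rw [hc, show 8 = 2 ^ 3 from rfl, Nat.pow_le_pow_iff_right (by norm_num)] at h8
  obtain rfl : n = 3 := by omega
  rcases h with ⟨h1, h2⟩ | ⟨h1, h2⟩ | ⟨h0, -⟩ | ⟨h0, -⟩
  · exact Or.inl (H7.nonempty_equiv_dihedral ha hb h1 h2 hc)
  · exact Or.inr (H7.nonempty_equiv_quaternion ha hb h1 h2 hc)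
  · omega
  · omega

theorem card_modEq_one_of_fpf [Finite G] {ρ : MulAut G} {p : ℕ} [Fact p.Prime] (h3 : ρ ^ p = 1)
    (hfp : ∀ y, ρ y = y → y = 1) (H : Subgroup G) (hH : ∀ y ∈ H, ρ y ∈ H) :
    Nat.card H ≡ 1 [MOD p] := by
  classical
  have := Fintype.ofFinite H
  let f : Function.End H := fun y => ⟨ρ y, hH y y.2⟩
  have hf : ∀ (k : ℕ) (y : H), ((f ^ k) y : G) = (ρ ^ k) y := by
    intro k y
    induction k with
    | zero => rfl
    | succ k ih => rw [pow_succ', pow_succ', MulAut.mul_apply, ← ih]; rfl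
  have h1 := Equiv.Perm.card_fixedPoints_modEq (f := f) (p := p) (n := 1)
    (funext fun y => Subtype.ext (by rw [pow_one, hf, h3]; rfl))
  rw [Nat.card_eq_fintype_card]
  convert h1
  symm
  rw [Fintype.card_eq_one_iff]
  exact ⟨⟨1, Subtype.ext (map_one ρ)⟩, fun y =>
    Subtype.ext (Subtype.ext (hfp _ (congrArg Subtype.val y.2)))⟩

theorem fpf_three [Finite G] {ρ : MulAut G} (h3 : ρ ^ 3 = 1) (hfp : ∀ y, ρ y = y → y = 1) (y : G) :
    y * ρ y * ρ (ρ y) = 1 := by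
  have hinj : Function.Injective (dl ρ) := fun a b h => by
    have : ρ (b * a⁻¹) = b * a⁻¹ := by
      rw [map_mul, map_inv]
      calc ρ b * (ρ a)⁻¹ = b * dl ρ b * (ρ a)⁻¹ := by simp [dl]
        _ = _ := by rw [← h, dl]; group
    exact (mul_inv_eq_one.mp (hfp _ this)).symm
  obtain ⟨z, rfl⟩ := Finite.surjective_of_injective hinj y
  have : ρ (ρ (ρ z)) = z := DFunLike.congr_fun (show ρ * (ρ * ρ) = 1 by rw [← pow_three, h3]) z
  simp [dl, this]

theorem zech_four {K : Type*} [Field K] (two : (2 : K) = 0) {l : K} (hl : l ≠ 0) {i j : ℕ}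
    (hi : i < 3) (hj : j < 3) (h : l ^ i + 1 = l ^ j) : (i = 1 ∧ j = 2) ∨ (i = 2 ∧ j = 1) := by
  have hl2 := pow_ne_zero 2 hl
  interval_cases i <;> interval_cases j <;> simp <;> grind

theorem order_64 {T : Type*} [Group T] [Finite T] (hT : Nat.card T = 64)
    (hna : ¬ IsMulCommutative T) (ρ x : MulAut T) (hρ : orderOf ρ = 3) (hx : orderOf x = 2)
    (hxr : x * ρ * x⁻¹ = ρ⁻¹) (hfp : ∀ y : T, ρ y = y → y = 1) (C : Subgroup T)
    (hC : ∀ y : T, y ∈ C ↔ x y = y) :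
    (∃ (F : Type) (_ : Field F) (_ : Fintype F), Fintype.card F = 4 ∧
        ∃ S : Sylow 2 (Matrix.ProjectiveSpecialLinearGroup (Fin 3) F),
          Nonempty (T ≃* ↥(S : Subgroup (Matrix.ProjectiveSpecialLinearGroup (Fin 3) F)))) ∧
      (Nonempty (↥C ≃* DihedralGroup 4) ∨ Nonempty (↥C ≃* QuaternionGroup 2)) := by
  have hG : IsPGroup 2 T := IsPGroup.of_card (n := 6) hT
  have h3 : ρ ^ 3 = 1 := by rw [← hρ, pow_orderOf_eq_one]
  have h2 : x ^ 2 = 1 := by rw [← hx, pow_orderOf_eq_one]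
  have r3 : ∀ y, ρ (ρ (ρ y)) = y := fun y =>
    DFunLike.congr_fun (show ρ * (ρ * ρ) = 1 by rw [← pow_three, h3]) y
  have x2 : ∀ y, x (x y) = y := fun y =>
    DFunLike.congr_fun (show x * x = 1 by rw [← pow_two, h2]) y
  have xr : ∀ y, x (ρ y) = ρ (ρ (x y)) := fun y => by
    have := DFunLike.congr_fun (mul_inv_eq_iff_eq_mul.mp hxr) y
    rw [MulAut.mul_apply, MulAut.mul_apply] at this
    apply ρ.injective
    rw [r3, this]; simp
  have R1 := fpf_three h3 hfp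
  have R2 : ∀ y, ρ (ρ y) * ρ y * y = 1 := fun y => by
    rw [← inv_eq_one, ← R1 y⁻¹]; simp [mul_assoc]
  have R3 : ∀ y, y * ρ y = ρ y * y := fun y => by
    rw [mul_eq_one_iff_eq_inv.mp (R1 y), eq_comm, ← mul_eq_one_iff_eq_inv', ← mul_assoc, R2]
  have : Nontrivial T := Finite.one_lt_card_iff_nontrivial.mp (by omega)
  obtain ⟨z, -, hz1, hzc, hz2⟩ := H7.exists_central_order_p hG (K := ⊤) top_ne_bot
  have hcen : ∀ φ : MulAut T, ∀ c ∈ center T, φ c ∈ center T := by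
    intro φ c hc
    rw [mem_center_iff] at hc ⊢
    intro g
    obtain ⟨g, rfl⟩ := φ.surjective g
    rw [← map_mul, ← map_mul, hc]
  have hz3 : ρ z ≠ 1 := by simpa using hz1
  have hz4 : z ≠ ρ z := fun h => hz1 (hfp z h.symm)
  have hz5 : ρ z ^ 2 = 1 := by rw [← map_pow, hz2, map_one]
  obtain ⟨Z, hZ⟩ : ∃ Z : Subgroup T, Z = zpowers z ⊔ zpowers (ρ z) := ⟨_, rfl⟩
  have hZc : Z ≤ center T := hZ ▸ sup_le (zpowers_le.mpr hzc) (zpowers_le.mpr (hcen ρ z hzc))
  have hZ4 : Nat.card Z = 4 := by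
    have := H7.normal_of_le_center (zpowers_le.mpr hzc)
    rw [hZ, H7.card_sup_zpowers (p := 2) (le_normalizer_of_normal (mem_top _)) _
      (hz5 ▸ one_mem _), H7.card_zpowers_of_pow_eq_one hz1 hz2]
    rw [H9.mem_zpowers_two (H9.orderOf_two_of hz2 hz1)]
    exact fun h => h.elim hz3 hz4.symm
  have hzZ : z ∈ Z := hZ ▸ mem_sup_left (mem_zpowers z)
  have hzZ' : ρ z ∈ Z := hZ ▸ mem_sup_right (mem_zpowers _)
  have hm : ∀ v ∈ Z, v = 1 ∨ v = z ∨ v = ρ z ∨ v = ρ (ρ z) := fun v hv => by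
    have e : z * ρ z = ρ (ρ z) := by
      rw [mul_eq_one_iff_eq_inv.mp (R1 z), inv_eq_iff_mul_eq_one, ← map_mul, ← pow_two, hz5,
        map_one]
    exact e ▸ mem_four hZ4 hzZ hzZ' hz1 hz3 hz4 (by rw [← pow_two, hz2]) hv
  have hρZ : ∀ v ∈ Z, ρ v ∈ Z := fun v hv => by
    rcases hm v hv with rfl | rfl | rfl | rfl
    · simp
    · exact hzZ'
    · rw [← inv_mem_iff, ← mul_eq_one_iff_eq_inv.mp (R1 z)]; exact mul_mem hzZ hzZ'
    · rwa [r3]
  have hZ2 : ∀ v ∈ Z, v ^ 2 = 1 := fun v hv => by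
    rcases hm v hv with rfl | rfl | rfl | rfl <;> simp [← map_pow, hz2]
  -- all squares lie in `Z`
  have hsq : ∀ y, y ^ 2 ∈ Z := by
    intro y
    by_contra hy
    have inv : ∀ S : Set T, (∀ s ∈ S, ρ s ∈ S) → ∀ h ∈ centralizer S, ρ h ∈ centralizer S := by
      intro S hS h hh s hs
      rw [← r3 s, ← map_mul, ← map_mul, hh _ (hS _ (hS _ hs))]
    have hS : ∀ s ∈ ({y, ρ y, ρ (ρ y)} : Set T), ρ s ∈ ({y, ρ y, ρ (ρ y)} : Set T) := by
      rintro s (rfl | rfl | rfl) <;> simp [r3]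
    have hy1 : y ∈ centralizer ({y, ρ y, ρ (ρ y)} : Set T) := by
      rintro s (rfl | rfl | rfl)
      · rfl
      · exact (R3 _).symm
      · simpa [r3] using R3 (ρ (ρ y))
    have hSC : ({y, ρ y, ρ (ρ y)} : Set T) ⊆ centralizer ({y, ρ y, ρ (ρ y)} : Set T) := by
      rintro s (rfl | rfl | rfl)
      exacts [hy1, inv _ hS _ hy1, inv _ hS _ (inv _ hS _ hy1)]
    let H := centralizer (centralizer ({y, ρ y, ρ (ρ y)} : Set T) : Set T)
    have hH : ∀ a ∈ H, ∀ b ∈ H, a * b = b * a := fun a ha b hb => hb a (centralizer_le hSC ha)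
    have hyH : y ∈ H := fun g hg => (hg y (by simp)).symm
    have hρH : ∀ a ∈ H, ρ a ∈ H := inv _ (inv _ hS)
    let H' : Subgroup T :=
      { carrier := {a | a ∈ H ∧ a ^ 2 ∈ Z}
        one_mem' := ⟨one_mem _, by simp⟩
        mul_mem' := fun {a b} ha hb => ⟨mul_mem ha.1 hb.1, by
          rw [(show Commute a b from hH a ha.1 b hb.1).mul_pow]; exact mul_mem ha.2 hb.2⟩
        inv_mem' := fun {a} ha => ⟨inv_mem ha.1, by rw [inv_pow]; exact inv_mem ha.2⟩ }
    have l1 : Z < H' := by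
      obtain ⟨k, hk⟩ := hG y
      obtain ⟨j, h4, h5⟩ := H7.exists_pow_notMem_pow_mem hk fun h => hy (pow_mem h 2)
      exact lt_of_le_of_ne (fun a ha => ⟨center_le_centralizer _ (hZc ha), pow_mem ha 2⟩)
        fun h => h4 (h ▸ ⟨pow_mem hyH _, h5⟩)
    have l2 : H' < H := lt_of_le_of_ne (fun a ha => ha.1) fun h => hy (h.ge hyH).2
    have l3 : H < ⊤ := lt_top_iff_ne_top.mpr fun h =>
      hna ⟨⟨fun a b => hH a (h ▸ mem_top a) b (h ▸ mem_top b)⟩⟩
    have c1 := H7.card_lt_of_lt l1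
    have c2 := H7.card_lt_of_lt l2
    have c3 := H7.card_lt_of_lt l3
    have : Fact (Nat.Prime 3) := ⟨Nat.prime_three⟩
    have m1 := card_modEq_one_of_fpf h3 hfp H' fun a ha => ⟨hρH a ha.1, map_pow ρ a 2 ▸ hρZ _ ha.2⟩
    have m2 := card_modEq_one_of_fpf h3 hfp H hρH
    obtain ⟨i, hi⟩ := H7.card_eq_pow_of_le (hG.to_subgroup H')
    obtain ⟨j, hj⟩ := H7.card_eq_pow_of_le (hG.to_subgroup H)
    rw [card_top, hT] at c3
    rw [hi] at c1 c2 m1
    rw [hj, show 64 = 2 ^ 6 from rfl, Nat.pow_lt_pow_iff_right (by norm_num)] at c3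
    rw [hj, Nat.pow_lt_pow_iff_right (by norm_num)] at c2
    rw [hZ4, show 4 = 2 ^ 2 from rfl, Nat.pow_lt_pow_iff_right (by norm_num)] at c1
    rw [hj] at m2
    interval_cases j <;> interval_cases i <;> simp [Nat.ModEq] at m1 m2
  constructor
  · obtain ⟨F, _, _, H, hF, hq, hK⟩ := exists_herm_galois (n := 2) (by omega)
    obtain ⟨u, l, u1, u2, u3, u4, u5⟩ := exists_coords (K := H.Kf) ρ Z
      (fun a _ b hb => mem_center_iff.mp (hZc hb) a) hρZ (fun a b ha hb a1 b1 => by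
        have e : ∀ v ∈ Z, v ≠ 1 → ∃ k : ℕ, k ≤ 3 ∧ (ρ ^ k) z = v := fun v hv v1 => by
          rcases hm v hv with rfl | rfl | rfl | rfl
          exacts [absurd rfl v1, ⟨0, by omega, rfl⟩, ⟨1, by omega, rfl⟩, ⟨2, by omega, rfl⟩]
        obtain ⟨i, hi, rfl⟩ := e a ha a1
        obtain ⟨j, -, rfl⟩ := e b hb b1
        refine ⟨j + (3 - i), ?_⟩
        rw [← MulAut.mul_apply, ← pow_add, add_assoc, Nat.sub_add_cancel hi, pow_add, h3,
          mul_one]) (hK.trans hZ4.symm)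
    have two := H.two_Kf
    have hl0 : l ≠ 0 := by
      rintro rfl
      exact one_ne_zero (u1 (ρ.injective (by rw [u4, u4]; simp)) : (1 : H.Kf) = 0)
    have hl3 : l ^ 3 = 1 := by
      have := u4 (l * (l * 1))
      rw [← u4, ← u4, r3] at this
      rw [u1 this]; ring
    have hs : ∀ y, ∃ s, y⁻¹ = y * u s := fun y => by
      obtain ⟨s, hs⟩ := (u3 _).mp (inv_mem (hsq y))
      exact ⟨s, by rw [hs, pow_two]; group⟩
    obtain ⟨act, ha⟩ := exists_fieldAct two u2 u1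
      (fun s y => mem_center_iff.mp (hZc ((u3 _).mpr ⟨s, rfl⟩)) y)
      (fun y => ((u3 _).mp (hsq y)).imp fun _ h => h.symm) u4 u5 (by rw [hK]; exact h3)
      (fun i j hij y => by
        rw [pow_eq_pow_mod i hl3, pow_eq_pow_mod j hl3] at hij
        rw [pow_eq_pow_mod i h3, pow_eq_pow_mod j h3]
        have hi := Nat.mod_lt i (show 0 < 3 by omega)
        have hj := Nat.mod_lt j (show 0 < 3 by omega)
        generalize i % 3 = i at *
        generalize j % 3 = j at *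
        rcases zech_four two hl0 hi hj hij with ⟨rfl, rfl⟩ | ⟨rfl, rfl⟩
        · obtain ⟨s, hs⟩ := hs (ρ y * y)
          exact ⟨s, by rw [pow_one, ← hs, eq_inv_iff_mul_eq_one, ← mul_assoc]; exact R2 y⟩
        · obtain ⟨s, hs⟩ := hs (ρ (ρ y) * y)
          refine ⟨s, (?_ : ρ y = ρ (ρ y) * y * u s)⟩
          rw [← hs, eq_inv_iff_mul_eq_one, ← mul_assoc]
          simpa [r3] using R1 (ρ y))
    rcases sylow_of_equiv hF hq (ha.nonempty_equiv H (by rw [hK, hT]; rfl) hna) with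
      ⟨-, ⟨e⟩, -⟩ | h
    · rw [no_S3_U34 hF hq e h3 h2 hxr] at hρ
      simp at hρ
    · exact h
  refine D8_or_Q8 (hG.to_subgroup C) ?_ fun hc => ?_
  · have : Nat.card (C × C) ≤ Nat.card T := Nat.card_le_card_of_injective
      (fun p => p.1.1 * ρ p.2.1) (by
        rintro ⟨a, b⟩ ⟨a', b'⟩ h
        have e1 : ((a'⁻¹ * a : C) : T) = ρ ((b' * b⁻¹ : C) : T) := by
          simp only [coe_mul, coe_inv, map_mul, map_inv] at h ⊢
          rw [inv_mul_eq_iff_eq_mul, ← mul_assoc, ← h, mul_inv_cancel_right]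
        have e2 := (hC _).mp (a'⁻¹ * a).2
        rw [e1, xr, (hC _).mp (b' * b⁻¹).2] at e2
        have e3 := hfp _ e2
        rw [← e1, OneMemClass.coe_eq_one, inv_mul_eq_one] at e3
        subst e3
        simpa using h)
    rw [Nat.card_prod, hT] at this
    nlinarith
  have hcZ : ∀ a b : T, ⁅a, b⁆ ∈ Z := fun a b => by
    have : ⁅a, b⁆ = a ^ 2 * (a⁻¹ * b) ^ 2 * (b⁻¹) ^ 2 := by
      rw [commutatorElement_def, pow_two, pow_two, pow_two]; group
    rw [this]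
    exact mul_mem (mul_mem (hsq _) (hsq _)) (hsq _)
  have hcc : ∀ a b g : T, g * ⁅a, b⁆ = ⁅a, b⁆ * g := fun a b g =>
    mem_center_iff.mp (hZc (hcZ a b)) g
  have b1 : ∀ a b c : T, ⁅a * b, c⁆ = ⁅b, c⁆ * ⁅a, c⁆ := fun a b c => by
    rw [commutatorElement_mul_left_eq_conj_mul, hcc b c a, mul_inv_cancel_right]
  have b2 : ∀ a b c : T, ⁅a, b * c⁆ = ⁅a, b⁆ * ⁅a, c⁆ := fun a b c => by
    rw [commutatorElement_mul_right_eq_mul_conj, mul_assoc _ b, hcc, ← mul_assoc,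
      mul_inv_cancel_right]
  have b3 : ∀ a b : T, ⁅a, ρ b⁆ = ⁅ρ a, b⁆ := fun a b => by
    have e := commutatorElement_eq_one_iff_mul_comm.mpr (R3 (a * b))
    rw [map_mul, b1, b2, b2, commutatorElement_eq_one_iff_mul_comm.mpr (R3 a),
      commutatorElement_eq_one_iff_mul_comm.mpr (R3 b), mul_one, one_mul,
      mul_eq_one_iff_inv_eq, commutatorElement_inv] at e
    exact e.symm
  have hCC : ∀ a ∈ C, ∀ b ∈ C, a * b = b * a := fun a ha b hb => H6.comm_of_isMulCommutative hc ha hb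
  have hCC' : ∀ a ∈ C, ∀ b ∈ C, a * ρ (ρ b) = ρ (ρ b) * a := fun a ha b hb => by
    rw [← commutatorElement_eq_one_iff_mul_comm, b3, ← map_commutatorElement,
      commutatorElement_eq_one_iff_mul_comm.mpr (hCC a ha b hb), map_one]
  have k1 : ∀ t, ∃ a ∈ C, ∃ c ∈ center T, a = t * x t * c := by
    intro t
    obtain ⟨c, hc⟩ : ∃ c, c = ⁅(x t)⁻¹, t⁻¹⁆ := ⟨_, rfl⟩
    have c1 : c ∈ Z := hc ▸ hcZ _ _
    have c2 : x (t * x t) = t * x t * c := by
      rw [map_mul, x2, hc, commutatorElement_def]; group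
    have c3 : x c = c := by
      have := congrArg x c2
      rw [x2, map_mul, c2, mul_assoc, left_eq_mul, ← hZ2 c c1, pow_two, mul_right_inj] at this
      exact this
    have c4 : c * ρ (ρ c) = ρ c := by
      have := R1 c
      rw [R3 c, mul_assoc, ← hZ2 _ (hρZ c c1), pow_two, mul_right_inj] at this
      exact this
    exact ⟨_, (hC _).mpr (by rw [map_mul, c2, xr, c3, mul_assoc, c4]), ρ c, hZc (hρZ c c1), rfl⟩
  have k2 : ∀ t, ∃ a ∈ C, ∃ b ∈ C, ∃ c ∈ center T, t = c * b * ρ (ρ a) := by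
    intro t
    obtain ⟨a, ha, c, hc, e1⟩ := k1 t
    obtain ⟨b, hb, d, hd, e2⟩ := k1 (ρ t)
    refine ⟨a⁻¹, inv_mem ha, b⁻¹, inv_mem hb, t * ρ (ρ a) * b, ?_, by simp⟩
    let π := QuotientGroup.mk' (center T)
    have h1 : ∀ g, π g = 1 ↔ g ∈ center T := fun g => QuotientGroup.eq_one_iff g
    have e5 : π t * π (ρ (ρ t)) * π (ρ t) = 1 := by
      rw [← map_mul, ← map_mul, mul_assoc, mul_eq_one_comm.mp (R2 t), map_one]
    have e6 : ∀ g, π g * π g = 1 := fun g => by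
      rw [← map_mul, ← pow_two, h1]; exact hZc (hsq g)
    have e7 : ∀ g h, π g * π h = π h * π g := fun g h => by
      rw [← commutatorElement_eq_one_iff_mul_comm, ← map_commutatorElement, h1]
      exact hZc (hcZ g h)
    rw [← h1, e1, e2, xr]
    simp only [map_mul, (h1 _).mpr hd, (h1 _).mpr (hcen ρ _ (hcen ρ _ hc)), mul_one]
    rw [e7 (ρ t), ← mul_assoc, ← mul_assoc, mul_assoc _ _ (π (ρ (ρ (x t)))), e6, mul_one, e5]
  have k3 : C ≤ center T := fun g hg => mem_center_iff.mpr fun t => by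
    obtain ⟨a, ha, b, hb, c, hc, rfl⟩ := k2 t
    rw [mul_assoc, ← hCC' g hg a ha, ← mul_assoc, mul_assoc c, ← hCC g hg b hb, ← mul_assoc,
      ← mem_center_iff.mp hc g]
    simp only [mul_assoc]
  refine hna ⟨⟨fun s t => ?_⟩⟩
  obtain ⟨a, ha, b, hb, c, hc, rfl⟩ := k2 t
  exact mem_center_iff.mp (mul_mem (mul_mem hc (k3 hb)) (hcen ρ _ (hcen ρ _ (k3 ha)))) s

end H2
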